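import Cfsg.Agent.Blocks.PrimeGram.FullAutomizer

/-!
Further tools for Sylow subgroups of order `p` with every automorphism induced: the principal block,
the determinant at an element of order `p - 1`, and multiplicities at a commuting element of order
three.
-/

set_option autoImplicit false

namespace CfsgLib.PrimeGram

open Cfsg CfsgLib.Chars
open scoped ComplexConjugate Classical

variable {G : Type*} [Group G] {p : ℕ} [hp : Fact p.Prime]

/-- With `e = p - 1` the principal block has `p` signed members, all but at most one with constant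
values on `x^i y`; the signed sum of the values vanishes on `p`-regular elements. -/
theorem exists_signed_block [Finite G] (hp2 : p ≠ 2) (P : Sylow p G)
    (hP : Nat.card (P : Subgroup G) = p)
    (he : (Subgroup.centralizer ((P : Subgroup G) : Set G)).relIndex
      (Subgroup.normalizer ((P : Subgroup G) : Set G)) = p - 1) :
    ∃ (x : G) (S : Finset (IrrCharacter G)) (v : IrrCharacter G → ℤ) (θ : IrrCharacter G),
      orderOf x = p ∧ Subgroup.zpowers x = (P : Subgroup G) ∧ S.card = p ∧ θ ∈ S ∧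
      oneChar G ∈ S ∧ v (oneChar G) = 1 ∧ (∀ χ ∈ S, v χ = 1 ∨ v χ = -1) ∧
      (∀ χ ∈ S, (charDegree (χ : G → ℂ) : ℤ) % (p : ℤ) = v χ % (p : ℤ)) ∧
      (∀ g : G, ¬ p ∣ orderOf g → ∑ χ ∈ S, (v χ : ℂ) * (χ : G → ℂ) g = 0) ∧
      ∀ χ ∈ S.erase θ, ∀ i : ZMod p, i ≠ 0 → ∀ y : G, Commute y x → ¬ p ∣ orderOf y →
        (χ : G → ℂ) (pw p x i * y) = (v χ : ℂ) := by
  haveI := Fintype.ofFinite G
  obtain ⟨M, hM⟩ := exists_isPModular p
  haveI := hM.2.1
  obtain ⟨u₀, hu, hz, hidx⟩ := Blocks.OrderP.exists_generator_sylow P hP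
  rw [← hz] at he
  obtain ⟨X, Y, hdisj, hB0, hXc, hYc, εX, ε, hε, hX, hY, hrel⟩ :=
    Blocks.OrderP.principal_block_structure hM hu hidx he
  have hp3 : 3 ≤ p := by have := hp.out.two_le; omega
  rw [show (p - 1) / (p - 1) = 1 from Nat.div_self (by omega)] at hYc
  obtain ⟨θ, hθ⟩ := Finset.card_eq_one.mp hYc
  subst hθ
  have hθX : θ ∉ X := fun h => Finset.disjoint_left.mp hdisj h (Finset.mem_singleton_self θ)
  let v : IrrCharacter G → ℤ := fun χ => if χ = θ then -ε else εX χ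
  have hvX : ∀ χ ∈ X, v χ = εX χ := fun χ h => if_neg fun (e : χ = θ) => hθX (e ▸ h)
  have hvθ : v θ = -ε := if_pos rfl
  have hval : ∀ χ ∈ X, ∀ i : ZMod p, i ≠ 0 → ∀ y : G, Commute y u₀ → ¬ p ∣ orderOf y →
      (χ : G → ℂ) (pw p u₀ i * y) = (εX χ : ℂ) := fun χ hχ i hi y hy hy' =>
    (hX χ hχ).2.2 _ (Subgroup.pow_mem _ (Subgroup.mem_zpowers u₀) _)
      (fun h => hi ((pw_eq_one_iff hu i).mp h)) y hy hy'
  have hcast : ((p - 1 : ℕ) : ℤ) = (p : ℤ) - 1 := by omega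
  have hsign : ∀ χ ∈ insert θ X, v χ = 1 ∨ v χ = -1 := fun χ h => by
    rcases Finset.mem_insert.mp h with rfl | h
    · rw [hvθ]; rcases hε with rfl | rfl <;> simp
    · rw [hvX χ h]; exact (hX χ h).1
  have hcong : ∀ χ ∈ insert θ X, (charDegree (χ : G → ℂ) : ℤ) % (p : ℤ) = v χ % (p : ℤ) :=
    fun χ h => by
    rcases Finset.mem_insert.mp h with rfl | h
    · rw [hvθ, hY _ (Finset.mem_singleton_self _), hcast,
        show ε * ((p : ℤ) - 1) = -ε + (p : ℤ) * ε by ring, Int.add_mul_emod_self_left]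
    · rw [hvX χ h]; exact (hX χ h).2.1
  have hone : oneChar G ∈ insert θ X := by
    rcases (hB0 _).mp (Blocks.oneChar_mem_principalBlock_of_finite G) with h | h
    · exact Finset.mem_insert_of_mem h
    · rw [Finset.mem_singleton] at h; rw [h]; exact Finset.mem_insert_self _ _
  refine ⟨u₀, insert θ X, v, θ, hu, hz, ?_, Finset.mem_insert_self _ _, hone, ?_, hsign, hcong,
    fun g hg => ?_, fun χ hχ i hi y hy hy' => ?_⟩
  · rw [Finset.card_insert_of_notMem hθX, hXc]; omega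
  · have h1 := hcong _ hone
    rw [show charDegree (oneChar G : G → ℂ) = 1 from charDegree_linChar 1] at h1
    push_cast at h1
    rcases hsign _ hone with h | h
    · exact h
    · exfalso
      rw [h] at h1
      have hm : (-1 : ℤ) ≡ 1 [ZMOD (p : ℤ)] := h1.symm
      have h2 := Int.le_of_dvd (by norm_num) (Int.modEq_iff_dvd.mp hm)
      omega
  · rw [Finset.sum_insert hθX, hvθ, Finset.sum_congr rfl fun χ hχ => by rw [hvX χ hχ],
      ← hrel θ (Finset.mem_singleton_self θ) g hg]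
    push_cast; ring
  · have hχX : χ ∈ X := by
      simp at hχ
      tauto
    rw [hvX χ hχX]; exact hval χ hχX i hi y hy hy'

/-- A nontrivial involution of a simple group never acts as `-1`. -/
theorem value_ne_neg_degree [Finite G] [IsSimpleGroup G] (hG : ¬ IsMulCommutative G)
    {χ : IrrCharacter G} (hne : χ ≠ oneChar G) {u : G} (hu1 : u ≠ 1) :
    (χ : G → ℂ) u ≠ -(χ : G → ℂ) 1 := by
  intro h
  have hn : ‖(χ : G → ℂ) u‖ = ‖(χ : G → ℂ) 1‖ := by rw [h, norm_neg]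
  obtain ⟨n, ρ, hρ, hρχ⟩ := χ.2
  have hn1 : (χ : G → ℂ) 1 = (n : ℂ) := by rw [← hρχ, Representation.char_one]; simp
  have hn0 : n ≠ 0 := fun e => map_one_ne_zero χ (by rw [hn1, e]; simp)
  have hc' := rep_eq_smul_of_norm_character_eq ρ (g := u) hn0
    (by rw [hρχ, hn, hn1, Complex.norm_natCast])
  have hcentral : u ∈ Subgroup.center G := by
    refine Subgroup.mem_center_iff.mpr fun g => ?_
    have : g * u * g⁻¹ * u⁻¹ = 1 := by
      refine eq_one_of_value_eq_degree hne ?_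
      rw [← hρχ]
      show LinearMap.trace ℂ _ (ρ _) = LinearMap.trace ℂ _ (ρ 1)
      have hcen : ρ (g * u * g⁻¹) = ρ u := by
        rw [map_mul, map_mul, hc', mul_smul_comm, mul_one, smul_mul_assoc, ← map_mul, mul_inv_cancel,
          map_one]
      rw [map_mul, hcen, ← map_mul, mul_inv_cancel]
    calc g * u = g * u * g⁻¹ * u⁻¹ * (u * g) := by group
      _ = u * g := by rw [this, one_mul]
  rcases (Subgroup.center G).normal_of_characteristic.eq_bot_or_eq_top with e | e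
  · exact hu1 (Subgroup.mem_bot.mp (e ▸ hcentral))
  · exact hG ⟨⟨fun s t => (Subgroup.mem_center_iff.1 (e ▸ Subgroup.mem_top t) s)⟩⟩

/-- A character without fixed vectors of `x` vanishes on the elements acting non-trivially on
`⟨x⟩`. -/
theorem value_eq_zero_of_free [Finite G] {x : G} (hx : orderOf x = p) {g : G} {h : ZMod p}
    (hg : g * x * g⁻¹ = pw p x h) (hh : h ≠ 1) {χ : G → ℂ} (hχ : IsCharacter G χ)
    (hsum : ∑ i : ZMod p, χ (pw p x i) = 0) : χ g = 0 := by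
  have hcl := isClassFunction_of_isCharacter hχ
  obtain ⟨n, ρ, rfl⟩ := hχ
  have hp0 : (p : ℂ) ≠ 0 := Nat.cast_ne_zero.mpr hp.out.ne_zero
  set E : Module.End ℂ (Fin n → ℂ) := (p : ℂ)⁻¹ • ∑ i : ZMod p, ρ (pw p x i) with hEdef
  have hshift : ∀ j : ZMod p, ρ (pw p x j) * ∑ i : ZMod p, ρ (pw p x i) = ∑ i : ZMod p, ρ (pw p x i) := by
    intro j
    rw [Finset.mul_sum]
    refine Fintype.sum_equiv (Equiv.addLeft j) _ _ fun i => ?_
    rw [← map_mul, ← pw_add hx]; rfl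
  have hE : E * E = E := by
    rw [hEdef, smul_mul_smul_comm, Finset.sum_mul, Finset.sum_congr rfl fun j _ => hshift j,
      Finset.sum_const, Finset.card_univ, ZMod.card, ← Nat.cast_smul_eq_nsmul ℂ, smul_smul]
    congr 1
    field_simp
  have hE0 : E = 0 := DetRegular.eq_zero_of_trace_eq_zero hE (by
    rw [hEdef, map_smul, map_sum]
    show (p : ℂ)⁻¹ • ∑ i : ZMod p, ρ.character (pw p x i) = 0
    rw [hsum, smul_zero])
  have hconst : ∀ i : ZMod p, ρ.character (g * pw p x i) = ρ.character g := by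
    intro i
    -- `g x^i` is a conjugate of `g` by a power of `x`
    by_cases h0 : h = 0
    · exfalso
      rw [h0, pw_zero, mul_inv_eq_one, mul_eq_left] at hg
      rw [hg, orderOf_one] at hx
      exact hp.out.ne_one hx.symm
    set j : ZMod p := i * (1 - h)⁻¹ with hj
    have hh1 : (1 : ZMod p) - h ≠ 0 := sub_ne_zero.mpr (Ne.symm hh)
    have hgi : ∀ k : ZMod p, g * pw p x k = pw p x (h * k) * g := by
      intro k
      rw [← mul_inv_eq_iff_eq_mul]
      show g * x ^ k.val * g⁻¹ = _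
      rw [← conj_pow, hg, pw_pow hx, ZMod.natCast_zmod_val]
    have e : g * pw p x i = pw p x (h * j) * (g * pw p x 0) * (pw p x (h * j))⁻¹ := by
      have hinv : (pw p x (h * j))⁻¹ = pw p x (-(h * j)) :=
        (eq_inv_of_mul_eq_one_left (by rw [← pw_add hx, neg_add_cancel, pw_zero])).symm
      rw [pw_zero, mul_one, hinv, ← hgi, mul_assoc, ← pw_add hx]
      congr 2
      rw [hj]; field_simp
      ring
    rw [e, hcl, pw_zero, mul_one]
  have key : LinearMap.trace ℂ _ (ρ g * E) = ρ.character g := by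
    rw [hEdef, mul_smul_comm, map_smul, Finset.mul_sum, map_sum]
    simp only [← map_mul]
    show (p : ℂ)⁻¹ • ∑ i : ZMod p, ρ.character (g * pw p x i) = _
    rw [Finset.sum_congr rfl fun i _ => hconst i, Finset.sum_const, Finset.card_univ, ZMod.card,
      nsmul_eq_mul, smul_eq_mul, ← mul_assoc, inv_mul_cancel₀ hp0, one_mul]
  rw [← key, hE0, mul_zero, map_zero]

/-- No character of degree `p - 1` without fixed vectors of `x`, when some element of order
`p - 1` induces automorphisms of order `p - 1` of `⟨x⟩`. -/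
theorem false_of_free_degree [Finite G] (hlin : ∀ l : G →* ℂˣ, l = 1) (hp2 : p ≠ 2) {x : G}
    (hx : orderOf x = p) {g : G} (hg1 : g ^ (p - 1) = 1)
    (hg : ∀ i, 0 < i → i < p - 1 → ∃ h : ZMod p, h ≠ 1 ∧ g ^ i * x * (g ^ i)⁻¹ = pw p x h)
    {χ : G → ℂ} (hχ : IsCharacter G χ) (hd : χ 1 = ((p - 1 : ℕ) : ℂ))
    (hsum : ∑ i : ZMod p, χ (pw p x i) = 0) : False := by
  have hval : ∀ i, 0 < i → i < p - 1 → χ (g ^ i) = 0 := fun i h1 h2 => by
    obtain ⟨h, hh, hgh⟩ := hg i h1 h2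
    exact value_eq_zero_of_free hx hgh hh hχ hsum
  obtain ⟨n, ρ, rfl⟩ := hχ
  have hn : n = p - 1 := by
    have := hd
    rw [Representation.char_one, Module.finrank_fin_fun] at this
    exact_mod_cast this
  have hdet : LinearMap.det (ρ g) = 1 := by
    have h := congrArg (fun l : G →* ℂˣ => (l g : ℂ)) (hlin (Chars.Induced.repDet ρ))
    simpa using h
  have := hp.out.two_le
  rw [DetRegular.det_eq_neg_one_pow (m := p - 1) (t := 1) (by omega) (ρ g)
    (by rw [← map_pow, hg1, map_one])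
    (fun i h1 h2 => by rw [← map_pow]; exact hval i h1 h2)
    (by rw [Module.finrank_fin_fun, hn, one_mul]), mul_one] at hdet
  have heven := (neg_one_pow_eq_one_iff_even (R := ℂ) (by norm_num)).mp hdet
  have hodd : p % 2 = 1 := hp.out.eq_two_or_odd.resolve_left hp2
  rcases heven with ⟨k, hk⟩
  omega

/-- The multiplicities of the three eigenvalues of an element of order three. -/
theorem exists_mult_three [Finite G] (hlin : ∀ l : G →* ℂˣ, l = 1) {u : G} (hu : u ^ 3 = 1)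
    {χ : G → ℂ} (hχ : IsCharacter G χ) :
    ∃ a b c : ℕ, χ 1 = (a : ℂ) + b + c ∧
      χ u = (a : ℂ) + b * ZMod.stdAddChar (1 : ZMod 3) + c * ZMod.stdAddChar (2 : ZMod 3) ∧
      χ (u ^ 2) = (a : ℂ) + b * ZMod.stdAddChar (2 : ZMod 3) + c * ZMod.stdAddChar (1 : ZMod 3) ∧
      (b + 2 * c) % 3 = 0 := by
  obtain ⟨n, ρ, rfl⟩ := hχ
  set ω : ℂ := ZMod.stdAddChar (1 : ZMod 3) with hω
  have hω2 : ZMod.stdAddChar (2 : ZMod 3) = ω ^ 2 := by
    rw [hω, ← AddChar.map_nsmul_eq_pow]; rfl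
  have hω3 : ω ^ 3 = 1 := by
    rw [hω, ← AddChar.map_nsmul_eq_pow]
    rw [show (3 : ℕ) • (1 : ZMod 3) = 0 from by decide, AddChar.map_zero_eq_one]
  have hω1 : ω ≠ 1 := fun h => by
    have := ZMod.injective_stdAddChar (N := 3) (h.trans (AddChar.map_zero_eq_one _).symm)
    exact absurd this (by decide)
  have hsum : 1 + ω + ω ^ 2 = 0 :=
    (mul_eq_zero.mp (by linear_combination hω3 : (ω - 1) * (1 + ω + ω ^ 2) = 0)).resolve_left
      (sub_ne_zero.mpr hω1)
  set A := ρ u with hA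
  have hA3 : A * (A * A) = 1 := by rw [hA, ← map_mul, ← map_mul, ← pow_three, hu, map_one]
  set E₁ : Module.End ℂ (Fin n → ℂ) := (3 : ℂ)⁻¹ • (1 + ω ^ 2 • A + ω • (A * A)) with hE₁
  set E₂ : Module.End ℂ (Fin n → ℂ) := (3 : ℂ)⁻¹ • (1 + ω • A + ω ^ 2 • (A * A)) with hE₂
  have hA3' : A * A * A = 1 := by rw [mul_assoc]; exact hA3
  have hmul : ∀ a b c a' b' c' : ℂ,
      (a • (1 : Module.End ℂ (Fin n → ℂ)) + b • A + c • (A * A)) * (a' • 1 + b' • A + c' • (A * A)) =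
      (a * a' + b * c' + c * b') • 1 + (a * b' + b * a' + c * c') • A +
        (a * c' + b * b' + c * a') • (A * A) := by
    intro a b c a' b' c'
    simp only [add_mul, mul_add, smul_mul_smul_comm, one_mul, mul_one]
    rw [show A * A * (A * A) = A by rw [mul_assoc, hA3, mul_one], hA3, hA3']
    simp only [add_smul]
    abel
  have h1 : E₁ = ((3 : ℂ)⁻¹) • (1 : Module.End ℂ (Fin n → ℂ)) + ((3 : ℂ)⁻¹ * ω ^ 2) • A +
      ((3 : ℂ)⁻¹ * ω) • (A * A) := by rw [hE₁, smul_add, smul_add, smul_smul, smul_smul]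
  have h2 : E₂ = ((3 : ℂ)⁻¹) • (1 : Module.End ℂ (Fin n → ℂ)) + ((3 : ℂ)⁻¹ * ω) • A +
      ((3 : ℂ)⁻¹ * ω ^ 2) • (A * A) := by rw [hE₂, smul_add, smul_add, smul_smul, smul_smul]
  have hi1 : E₁ * E₁ = E₁ := by
    rw [h1, hmul]; congr 1; congr 1
    · congr 1; linear_combination (2 * (3 : ℂ)⁻¹ * (3 : ℂ)⁻¹) * hω3
    · congr 1; ring
    · congr 1; linear_combination ((3 : ℂ)⁻¹ * (3 : ℂ)⁻¹ * ω) * hω3
  have hi2 : E₂ * E₂ = E₂ := by
    rw [h2, hmul]; congr 1; congr 1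
    · congr 1; linear_combination (2 * (3 : ℂ)⁻¹ * (3 : ℂ)⁻¹) * hω3
    · congr 1; linear_combination ((3 : ℂ)⁻¹ * (3 : ℂ)⁻¹ * ω) * hω3
    · congr 1; ring
  have h12 : E₁ * E₂ = 0 := by
    rw [h1, h2, hmul]
    have e0 : (3 : ℂ)⁻¹ * (3 : ℂ)⁻¹ + (3 : ℂ)⁻¹ * ω ^ 2 * ((3 : ℂ)⁻¹ * ω ^ 2) +
        (3 : ℂ)⁻¹ * ω * ((3 : ℂ)⁻¹ * ω) = 0 := by
      linear_combination ((3 : ℂ)⁻¹ * (3 : ℂ)⁻¹) * hsum + ((3 : ℂ)⁻¹ * (3 : ℂ)⁻¹ * ω) * hω3
    have e1 : (3 : ℂ)⁻¹ * ((3 : ℂ)⁻¹ * ω) + (3 : ℂ)⁻¹ * ω ^ 2 * (3 : ℂ)⁻¹ +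
        (3 : ℂ)⁻¹ * ω * ((3 : ℂ)⁻¹ * ω ^ 2) = 0 := by
      linear_combination ((3 : ℂ)⁻¹ * (3 : ℂ)⁻¹) * hsum + ((3 : ℂ)⁻¹ * (3 : ℂ)⁻¹) * hω3
    have e2 : (3 : ℂ)⁻¹ * ((3 : ℂ)⁻¹ * ω ^ 2) + (3 : ℂ)⁻¹ * ω ^ 2 * ((3 : ℂ)⁻¹ * ω) +
        (3 : ℂ)⁻¹ * ω * (3 : ℂ)⁻¹ = 0 := by
      linear_combination ((3 : ℂ)⁻¹ * (3 : ℂ)⁻¹) * hsum + ((3 : ℂ)⁻¹ * (3 : ℂ)⁻¹) * hω3
    rw [e0, e1, e2, zero_smul, zero_smul, zero_smul, add_zero, add_zero]
  have hdec : A = (1 + (ω - 1) • E₁) * (1 + (ω ^ 2 - 1) • E₂) := by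
    simp only [add_mul, mul_add, one_mul, mul_one, smul_mul_smul_comm, h12, smul_zero, add_zero]
    rw [h1, h2]
    match_scalars
    all_goals
      first
        | linear_combination (-(3 : ℂ)⁻¹) * hsum
        | linear_combination ((3 : ℂ)⁻¹) * hsum
        | linear_combination (-(2 * (3 : ℂ)⁻¹)) * hω3 + ((3 : ℂ)⁻¹) * hsum
        | linear_combination (2 * (3 : ℂ)⁻¹) * hω3 - ((3 : ℂ)⁻¹) * hsum
        | linear_combination (-((3 : ℂ)⁻¹ * ω)) * hω3
        | linear_combination ((3 : ℂ)⁻¹ * ω) * hω3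
  set b := Module.finrank ℂ (LinearMap.range E₁)
  set c := Module.finrank ℂ (LinearMap.range E₂)
  have hb : LinearMap.trace ℂ _ E₁ = (b : ℂ) := DetRegular.trace_idem hi1
  have hc : LinearMap.trace ℂ _ E₂ = (c : ℂ) := DetRegular.trace_idem hi2
  have hi0 : (1 - E₁ - E₂) * (1 - E₁ - E₂) = 1 - E₁ - E₂ := by
    have h21 : E₂ * E₁ = 0 := by
      rw [← h12, h1, h2, hmul, hmul]
      congr 1; congr 1
      all_goals (congr 1; ring)
    simp only [sub_mul, mul_sub, one_mul, mul_one, hi1, hi2, h12, h21]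
    abel
  set a := Module.finrank ℂ (LinearMap.range (1 - E₁ - E₂))
  have ha : LinearMap.trace ℂ _ (1 - E₁ - E₂) = (a : ℂ) := DetRegular.trace_idem hi0
  rw [map_sub, map_sub, LinearMap.trace_one, Module.finrank_fin_fun, hb, hc] at ha
  have h1' : LinearMap.trace ℂ _ E₁ = (b : ℂ) := hb
  rw [hE₁, map_smul, map_add, map_add, map_smul, map_smul, LinearMap.trace_one,
    Module.finrank_fin_fun, smul_eq_mul, smul_eq_mul, smul_eq_mul] at h1'
  have h2' : LinearMap.trace ℂ _ E₂ = (c : ℂ) := hc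
  rw [hE₂, map_smul, map_add, map_add, map_smul, map_smul, LinearMap.trace_one,
    Module.finrank_fin_fun, smul_eq_mul, smul_eq_mul, smul_eq_mul] at h2'
  refine ⟨a, b, c, ?_, ?_, ?_, ?_⟩
  · rw [Representation.char_one, Module.finrank_fin_fun, ← ha]; ring
  · show LinearMap.trace ℂ _ A = _
    rw [hω2, ← ha]
    linear_combination (ω - 1) * h1' + (ω ^ 2 - 1) * h2' +
      (-(3 : ℂ)⁻¹ * ((n : ℂ) - LinearMap.trace ℂ _ A)) * hsum +
      (-(3 : ℂ)⁻¹ * (2 * LinearMap.trace ℂ _ A + ω * LinearMap.trace ℂ _ (A * A))) * hω3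
  · have e : ρ.character (u ^ 2) = LinearMap.trace ℂ _ (A * A) := by
      show LinearMap.trace ℂ _ (ρ (u ^ 2)) = _
      rw [map_pow, pow_two]
    rw [e, hω2, ← ha]
    linear_combination (ω ^ 2 - 1) * h1' + (ω - 1) * h2' +
      (-(3 : ℂ)⁻¹ * ((n : ℂ) - LinearMap.trace ℂ _ (A * A))) * hsum +
      (-(3 : ℂ)⁻¹ * (2 * LinearMap.trace ℂ _ (A * A) + ω * LinearMap.trace ℂ _ A)) * hω3
  · have hdet : LinearMap.det A = 1 := by
      have h := congrArg (fun l : G →* ℂˣ => (l u : ℂ)) (hlin (Chars.Induced.repDet ρ))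
      simpa using h
    rw [hdec, map_mul, DetRegular.det_one_add_smul hi1, DetRegular.det_one_add_smul hi2,
      add_sub_cancel, add_sub_cancel, ← pow_mul, ← pow_add] at hdet
    have hord : orderOf ω = 3 := orderOf_eq_prime hω3 hω1
    have hd := orderOf_dvd_of_pow_eq_one hdet
    rw [hord] at hd
    exact Nat.mod_eq_zero_of_dvd hd

end CfsgLib.PrimeGram
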