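import Cfsg.Agent.Blocks.PrimeGram.SmallPrime

/-!
Multiplicities of the eigenvalues of an element of order three commuting with an element of prime
order on whose nontrivial cosets a character is constant.
-/

set_option autoImplicit false

namespace CfsgLib.PrimeGram

open Cfsg CfsgLib.Chars
open scoped ComplexConjugate

variable {G : Type*} [Group G] {p : ℕ} [hp : Fact p.Prime]

/-- An element `u` with `u ^ 3 = 1` commuting with `x`, where `χ` takes the value `η` on
`x^i u^j`: the multiplicities of its eigenvalues are congruent to those of `η`. -/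
theorem mult_commuting_three [Finite G] {x : G} (hx : orderOf x = p) {u : G} (hu : u ^ 3 = 1)
    (hc : Commute x u) {χ : G → ℂ} (hχ : IsCharacter G χ) (η : ℤ)
    (h : ∀ i : ZMod p, i ≠ 0 → ∀ n : ℕ, χ (pw p x i * u ^ n) = η)
    {a b c : ℕ} (h1 : χ 1 = (a : ℂ) + b + c)
    (h2 : χ u = (a : ℂ) + b * ZMod.stdAddChar (1 : ZMod 3) + c * ZMod.stdAddChar (2 : ZMod 3))
    (h3 : χ (u ^ 2) = (a : ℂ) + b * ZMod.stdAddChar (2 : ZMod 3) + c * ZMod.stdAddChar (1 : ZMod 3))
    (hp3 : p ≠ 3) :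
    (p : ℤ) ∣ (b : ℤ) ∧ (p : ℤ) ∣ (c : ℤ) ∧ (p : ℤ) ∣ (a : ℤ) - η := by
  haveI := Fintype.ofFinite G
  let φ : Multiplicative (ZMod p) × Multiplicative (ZMod 3) →* G :=
    { toFun := fun q => pw p x q.1.toAdd * u ^ q.2.toAdd.val
      map_one' := by simp [pw_zero]
      map_mul' := fun q r => by
        have hw : u ^ (q.2.toAdd + r.2.toAdd).val = u ^ q.2.toAdd.val * u ^ r.2.toAdd.val := by
          rw [← pow_add, ZMod.val_add, ← pow_eq_pow_mod _ hu]
        have hq : Commute (pw p x r.1.toAdd) (u ^ q.2.toAdd.val) :=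
          (hc.pow_left _).pow_right _
        simp only [Prod.fst_mul, Prod.snd_mul, toAdd_mul, pw_add hx, hw]
        rw [mul_assoc, ← mul_assoc (pw p x r.1.toAdd), hq.eq]
        simp only [mul_assoc] }
  let lam : ZMod 3 → (Multiplicative (ZMod p) × Multiplicative (ZMod 3) →* ℂˣ) := fun j =>
    MonoidHom.toHomUnits
      { toFun := fun q => ZMod.stdAddChar (j * q.2.toAdd)
        map_one' := by simp
        map_mul' := fun q r => by simp [mul_add, AddChar.map_add_eq_mul] }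
  have hlam : ∀ j q, ((lam j q : ℂˣ) : ℂ) = ZMod.stdAddChar (j * q.2.toAdd) := fun j q => rfl
  set ω : ℂ := ZMod.stdAddChar (1 : ZMod 3) with hω
  have hω2 : ZMod.stdAddChar (2 : ZMod 3) = ω ^ 2 := by rw [hω, ← AddChar.map_nsmul_eq_pow]; rfl
  have hω3 : ω ^ 3 = 1 := by
    rw [hω, ← AddChar.map_nsmul_eq_pow, show (3 : ℕ) • (1 : ZMod 3) = 0 from by decide,
      AddChar.map_zero_eq_one]
  have hω1 : ω ≠ 1 := fun h => by
    have := ZMod.injective_stdAddChar (N := 3) (h.trans (AddChar.map_zero_eq_one _).symm)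
    exact absurd this (by decide)
  have hsum : 1 + ω + ω ^ 2 = 0 :=
    (mul_eq_zero.mp (by linear_combination hω3 : (ω - 1) * (1 + ω + ω ^ 2) = 0)).resolve_left
      (sub_ne_zero.mpr hω1)
  have hcard : (Nat.card (Multiplicative (ZMod p) × Multiplicative (ZMod 3)) : ℂ) = 3 * p := by
    rw [Nat.card_prod, Nat.card_congr Multiplicative.toAdd, Nat.card_zmod,
      Nat.card_congr Multiplicative.toAdd, Nat.card_zmod]
    push_cast; ring
  have key : ∀ j : ZMod 3, ∃ n : ℕ, (χ 1 + χ u * conj (ZMod.stdAddChar j) +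
      χ (u ^ 2) * conj (ZMod.stdAddChar (j * 2))) +
      ((p : ℂ) - 1) * η * (1 + conj (ZMod.stdAddChar j) + conj (ZMod.stdAddChar (j * 2))) =
      3 * p * n := by
    intro j
    obtain ⟨n, hn⟩ := exists_nat_sum_hom hχ φ (lam j)
    refine ⟨n, ?_⟩
    rw [← hcard, ← hn]
    have e : ∀ i : ZMod p, ∑ s : Multiplicative (ZMod 3),
        χ (φ (Multiplicative.ofAdd i, s)) * conj ((lam j (Multiplicative.ofAdd i, s) : ℂˣ) : ℂ) =
        χ (pw p x i) + χ (pw p x i * u) * conj (ZMod.stdAddChar j) +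
          χ (pw p x i * u ^ 2) * conj (ZMod.stdAddChar (j * 2)) := by
      intro i
      rw [← Equiv.sum_comp (Multiplicative.ofAdd : ZMod 3 ≃ Multiplicative (ZMod 3))]
      rw [show (Finset.univ : Finset (ZMod 3)) = {0, 1, 2} from by decide,
        Finset.sum_insert (by decide), Finset.sum_pair (by decide), ← add_assoc]
      simp [φ, hlam, show (2 : ZMod 3).val = 2 from rfl, show (1 : ZMod 3).val = 1 from rfl]
    rw [Fintype.sum_prod_type, ← Equiv.sum_comp (Multiplicative.ofAdd : ZMod p ≃ Multiplicative (ZMod p)),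
      Finset.sum_congr rfl fun i _ => e i, ← Finset.add_sum_erase _ _ (Finset.mem_univ (0 : ZMod p)),
      Finset.sum_congr rfl fun i hi => show _ = (η : ℂ) * (1 + conj (ZMod.stdAddChar j) +
          conj (ZMod.stdAddChar (j * 2))) by
        have hi' := Finset.ne_of_mem_erase hi
        have v0 := h i hi' 0
        have v1 := h i hi' 1
        have v2 := h i hi' 2
        rw [pow_zero, mul_one] at v0
        rw [pow_one] at v1
        rw [v0, v1, v2]; ring,
      Finset.sum_const, Finset.card_erase_of_mem (Finset.mem_univ _), Finset.card_univ, ZMod.card,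
      nsmul_eq_mul, Nat.cast_sub hp.out.one_le, Nat.cast_one, pw_zero]
    simp only [one_mul]
    ring
  have hcω : conj ω = ω ^ 2 := by
    rw [hω, conj_stdAddChar, ← AddChar.map_nsmul_eq_pow]; rfl
  have hcω2 : conj (ω ^ 2) = ω := by
    rw [← hcω]; exact starRingEnd_self_apply ω
  obtain ⟨n₀, hn₀⟩ := key 0
  obtain ⟨n₁, hn₁⟩ := key 1
  obtain ⟨n₂, hn₂⟩ := key 2
  rw [h1, h2, h3, hω2] at hn₀ hn₁ hn₂
  simp only [zero_mul, AddChar.map_zero_eq_one, map_one, mul_one, one_mul] at hn₀ hn₁ hn₂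
  rw [show (2 : ZMod 3) * 2 = 1 from by decide, ← hω, hcω2, hcω] at hn₂
  rw [← hω, hω2, hcω2, hcω] at hn₁
  have hdiv : ∀ m : ℕ, (p : ℤ) ∣ 3 * (m : ℤ) → (p : ℤ) ∣ (m : ℤ) := fun m hm => by
    have hm' : p ∣ 3 * m := by exact_mod_cast hm
    exact_mod_cast (hp.out.dvd_mul.mp hm').resolve_left fun hd =>
      hp3 ((Nat.prime_dvd_prime_iff_eq hp.out Nat.prime_three).mp hd)
  refine ⟨⟨n₁, ?_⟩, ⟨n₂, ?_⟩, ⟨(n₀ : ℤ) - η, ?_⟩⟩
  · apply Int.cast_injective (α := ℂ); push_cast
    linear_combination (1 / 3 : ℂ) * hn₁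
      - (((a : ℂ) + ((p : ℂ) - 1) * η + (c : ℂ)) / 3) * hsum
      - ((2 * (b : ℂ) + (c : ℂ) * ω) / 3) * hω3
  · apply Int.cast_injective (α := ℂ); push_cast
    linear_combination (1 / 3 : ℂ) * hn₂
      - (((a : ℂ) + ((p : ℂ) - 1) * η + (b : ℂ)) / 3) * hsum
      - ((2 * (c : ℂ) + (b : ℂ) * ω) / 3) * hω3
  · apply Int.cast_injective (α := ℂ); push_cast
    linear_combination (1 / 3 : ℂ) * hn₀ - (((b : ℂ) + (c : ℂ)) / 3) * hsum

end CfsgLib.PrimeGram
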