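import Cfsg.Agent.Blocks.PrimeGram.CommutingThree

/-!
Sylow `5`-subgroups of order five whose centraliser has order divisible by two or three, in a simple
group of given order: each case is reduced to a finite check on degrees and values.
-/

set_option autoImplicit false

namespace CfsgLib.PrimeGram

open Cfsg CfsgLib.Chars
open scoped ComplexConjugate

/-- The sign congruent to `d` modulo five. -/
def fiveSign (d : ℕ) : ℤ := if d % 5 = 1 then 1 else -1

/-- The degrees allowed for signed members of the block. -/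
def fiveDeg (N L d : ℕ) : Bool := decide (d < L ∧ 2 ≤ d ∧ N % d = 0 ∧ (d % 5 = 1 ∨ d % 5 = 4))

/-- Signed degree and signed value at an involution, multiplicity of `-1` divisible by ten. -/
def twoOpts (N L : ℕ) : List (ℤ × ℤ) :=
  (List.range L).flatMap fun d =>
    if fiveDeg N L d then
      (List.range d).filterMap fun (b : ℕ) =>
        if 0 < b ∧ b % 10 = 0 then some (fiveSign d * d, fiveSign d * ((d : ℤ) - 2 * b)) else none
    else []

/-- Signed degree and signed value at an involution of any member. -/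
def twoOK (N L : ℕ) (t : ℤ × ℤ) : Bool :=
  fiveDeg N L t.1.natAbs && (List.range t.1.natAbs).any fun b =>
    decide (0 < b ∧ b % 2 = 0 ∧ fiveSign t.1.natAbs * t.1.natAbs = t.1 ∧
      fiveSign t.1.natAbs * ((t.1.natAbs : ℤ) - 2 * b) = t.2)

/-- The check excluding an involution in the centraliser, for four classes of conjugators. -/
def twoCheck (N L : ℕ) : Bool :=
  noMultiset (fun w => twoOK N L (-w)) id (twoOpts N L) 3 (1, 1) &&
    noMultiset (fun w => decide (w = 0)) id ((twoOpts N L).map Prod.fst).dedup 4 (1 : ℤ)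

/-- Signed degree and coordinates of the signed value at an element of order three. -/
def threeOpts (N L : ℕ) : List (ℤ × ℤ × ℤ) :=
  (List.range L).flatMap fun d =>
    if fiveDeg N L d then
      (List.range d).flatMap fun (b : ℕ) => (List.range d).filterMap fun (c : ℕ) =>
        if b + c ≤ d ∧ b % 5 = 0 ∧ c % 5 = 0 ∧ (b + 2 * c) % 3 = 0 ∧ 0 < b + c ∧
            (((d : ℤ) - b - c) - fiveSign d) % 5 = 0 then
          some (fiveSign d * d, fiveSign d * ((d : ℤ) - b - c - c), fiveSign d * ((b : ℤ) - c))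
        else none
    else []

/-- The three multiplicities recovered from signed degree and coordinates. -/
def threeOK (N L : ℕ) (t : ℤ × ℤ × ℤ) : Bool :=
  let d := t.1.natAbs
  let A := fiveSign d * t.2.1
  let B := fiveSign d * t.2.2
  let c := ((d : ℤ) - A - B) / 3
  fiveDeg N L d && decide (fiveSign d * d = t.1 ∧ 0 ≤ A + c ∧ 0 ≤ B + c ∧ 0 ≤ c ∧
    (A + c) + (B + c) + c = d ∧ ((B + c) + 2 * c) % 3 = 0 ∧ A + c < d ∧ B + c < d ∧ c < d)

/-- The check excluding an element of order three in the centraliser. -/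
def threeCheck (N L : ℕ) : Bool :=
  noMultiset (fun w => threeOK N L (-w)) id (threeOpts N L) 3 (1, 1, 0) &&
    noMultiset (fun w => decide (w = 0)) id ((threeOpts N L).map Prod.fst).dedup 4 (1 : ℤ)

theorem fiveSign_mul_self (d : ℕ) : fiveSign d * fiveSign d = 1 := by
  unfold fiveSign; split_ifs <;> rfl

open scoped Classical

variable {G : Type*} [Group G] [Finite G] [IsSimpleGroup G]

theorem fiveSign_eq {d : ℕ} {v : ℤ} (hv : v = 1 ∨ v = -1) (h : (d : ℤ) % 5 = v % 5) :
    v = fiveSign d ∧ (d % 5 = 1 ∨ d % 5 = 4) := by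
  unfold fiveSign
  rcases hv with e | e <;> subst e <;> refine ⟨?_, by omega⟩ <;> split_ifs with h' <;> omega

/-- Degrees of the signed members. -/
theorem fiveDeg_of_mem (hG : ¬ IsMulCommutative G) {N L : ℕ} (hN : Nat.card G = N) (hL : N < L * L)
    {χ : IrrCharacter G} (hne : χ ≠ oneChar G) {v : ℤ} (hv : v = 1 ∨ v = -1)
    (h : (charDegree (χ : G → ℂ) : ℤ) % 5 = v % 5) :
    fiveDeg N L (charDegree (χ : G → ℂ)) = true ∧ v = fiveSign (charDegree (χ : G → ℂ)) := by
  obtain ⟨hs, hd⟩ := fiveSign_eq hv h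
  refine ⟨decide_eq_true ⟨?_, ?_, ?_, hd⟩, hs⟩
  · have h1 := charDegree_sq_le χ
    rw [hN] at h1
    nlinarith
  · have := charDegree_pos χ
    by_contra h1
    exact hne (linear_eq_one hG χ (by omega))
  · exact Nat.mod_eq_zero_of_dvd (hN ▸ charDegree_dvd_card χ)

/-- From a list check to a contradiction. -/
theorem false_of_four_check {W : Type*} [AddCommGroup W] [DecidableEq W]
    {S : Finset (IrrCharacter G)} {θ : IrrCharacter G} (hθ : θ ∈ S) (hone : oneChar G ∈ S)
    (hS : S.card = 5) (wt : IrrCharacter G → W) (deg : IrrCharacter G → ℤ) (opts : List W)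
    (fst : W → ℤ) (ok : W → Bool) (w₁ : W) (h₁ : wt (oneChar G) = w₁) (hd₁ : deg (oneChar G) = 1)
    (hopt : ∀ χ ∈ S.erase θ, χ ≠ oneChar G → wt χ ∈ opts ∧ fst (wt χ) = deg χ)
    (hok : θ ≠ oneChar G → ok (wt θ) = true) (hsum : ∑ χ ∈ S, wt χ = 0) (hdeg : ∑ χ ∈ S, deg χ = 0)
    (hchk : (noMultiset (fun w => ok (-w)) id opts 3 w₁ &&
      noMultiset (fun w => decide (w = 0)) id (opts.map fst).dedup 4 (1 : ℤ)) = true) : False := by
  classical
  rw [Bool.and_eq_true] at hchk
  by_cases h : θ = oneChar G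
  · subst h
    have hb := noMultiset_sound _ id _ 4 (1 : ℤ) ((S.erase (oneChar G)).toList.map deg) hchk.2
      (by rw [List.length_map, Finset.length_toList, Finset.card_erase_of_mem hθ, hS])
      (fun a ha => by
        obtain ⟨χ, hχ, rfl⟩ := List.mem_map.mp ha
        rw [Finset.mem_toList] at hχ
        obtain ⟨h1, h2⟩ := hopt χ hχ (Finset.ne_of_mem_erase hχ)
        exact List.mem_dedup.mpr (List.mem_map.mpr ⟨_, h1, h2⟩))
    rw [List.map_id, Finset.sum_map_toList, ← hd₁, Finset.add_sum_erase S deg hθ, hdeg] at hb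
    simp at hb
  · have hmem : oneChar G ∈ S.erase θ := Finset.mem_erase.mpr ⟨Ne.symm h, hone⟩
    set T := (S.erase θ).erase (oneChar G) with hT
    have hb := noMultiset_sound _ id _ 3 w₁ (T.toList.map wt) hchk.1
      (by rw [List.length_map, Finset.length_toList, hT, Finset.card_erase_of_mem hmem,
        Finset.card_erase_of_mem hθ, hS])
      (fun a ha => by
        obtain ⟨χ, hχ, rfl⟩ := List.mem_map.mp ha
        rw [Finset.mem_toList] at hχ
        exact (hopt χ (Finset.mem_of_mem_erase hχ) (Finset.ne_of_mem_erase hχ)).1)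
    rw [List.map_id, Finset.sum_map_toList, ← h₁, Finset.add_sum_erase _ wt hmem] at hb
    rw [← Finset.add_sum_erase S wt hθ] at hsum
    rw [show -∑ χ ∈ S.erase θ, wt χ = wt θ from (eq_neg_of_add_eq_zero_left hsum).symm, hok h] at hb
    exact absurd hb (by decide)

theorem sum_deg_eq_zero {p : ℕ} [hp : Fact p.Prime] {S : Finset (IrrCharacter G)}
    {v : IrrCharacter G → ℤ}
    (hrel : ∀ g : G, ¬ p ∣ orderOf g → ∑ χ ∈ S, (v χ : ℂ) * (χ : G → ℂ) g = 0) :
    ∑ χ ∈ S, v χ * (charDegree (χ : G → ℂ) : ℤ) = 0 := by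
  have h := hrel 1 (by simp [hp.out.ne_one])
  simp only [← coe_charDegree] at h
  exact_mod_cast h

/-- No involution centralises `P` when all four automorphisms are induced. -/
theorem false_of_four_two (hG : ¬ IsMulCommutative G) [Fact (Nat.Prime 5)] (P : Sylow 5 G)
    (hP : Nat.card (P : Subgroup G) = 5)
    (he : (Subgroup.centralizer ((P : Subgroup G) : Set G)).relIndex
      (Subgroup.normalizer ((P : Subgroup G) : Set G)) = 4)
    (hC : 2 ∣ Nat.card (Subgroup.centralizer ((P : Subgroup G) : Set G)))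
    {N L : ℕ} (hN : Nat.card G = N) (hL : N < L * L) (hchk : twoCheck N L = true) : False := by
  haveI : Fact (Nat.Prime 2) := ⟨Nat.prime_two⟩
  have hlin := linear_trivial_of_simple hG
  obtain ⟨x, S, v, θ, hx, hz, hS, hθ, hone, hv1, hv, hcong, hrel, hval⟩ :=
    exists_signed_block (p := 5) (by norm_num) P hP he
  obtain ⟨u, hu, hu1, hux, hu5⟩ := exists_commuting_element (p := 5) hz 2 (by norm_num) hC
  have hu2 : u * u = 1 := by rw [← pow_two, ← hu, pow_orderOf_eq_one]
  have hdata : ∀ χ : IrrCharacter G, ∃ a b : ℕ, (χ : G → ℂ) 1 = (a : ℂ) + b ∧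
      (χ : G → ℂ) u = (a : ℂ) - b ∧ Even b := fun χ =>
    exists_even_neg hlin hu2 (isCharacter_coe χ)
  choose a b h1 h2 hb using hdata
  have hd : ∀ χ : IrrCharacter G, charDegree (χ : G → ℂ) = a χ + b χ := fun χ =>
    charDegree_eq_of_map_one (by rw [h1 χ]; push_cast; ring)
  have hb0 : ∀ χ : IrrCharacter G, χ ≠ oneChar G → 0 < b χ ∧ b χ < charDegree (χ : G → ℂ) := by
    intro χ hne
    refine ⟨Nat.pos_of_ne_zero fun h => hu1 (eq_one_of_value_eq_degree hne
      (by rw [h2, h1, h]; simp)), ?_⟩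
    rw [hd]
    have : a χ ≠ 0 := fun h => value_ne_neg_degree hG hne hu1 (by rw [h2, h1, h]; simp)
    omega
  have hone' : charDegree (oneChar G : G → ℂ) = 1 := charDegree_linChar 1
  let wt : IrrCharacter G → ℤ × ℤ := fun χ =>
    (v χ * (charDegree (χ : G → ℂ) : ℤ), v χ * ((charDegree (χ : G → ℂ) : ℤ) - 2 * b χ))
  have hb1 : b (oneChar G) = 0 := by
    have e1 := h1 (oneChar G); have e2 := h2 (oneChar G)
    rw [oneChar_apply] at e1 e2
    have : ((b (oneChar G) : ℕ) : ℂ) = 0 := by linear_combination (1/2 : ℂ) * e2 - (1/2 : ℂ) * e1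
    exact_mod_cast this
  refine false_of_four_check hθ hone hS wt (fun χ => v χ * (charDegree (χ : G → ℂ) : ℤ))
    (twoOpts N L) Prod.fst (twoOK N L) (1, 1) ?_ ?_ ?_ ?_ ?_ ?_ hchk
  · simp [wt, hv1, hone', hb1]
  · simp [hv1, hone']
  · intro χ hχ hne
    have hχS := Finset.mem_of_mem_erase hχ
    obtain ⟨hdeg, hs⟩ := fiveDeg_of_mem hG hN hL hne (hv χ hχS) (by exact_mod_cast hcong χ hχS)
    obtain ⟨h5, -⟩ := mult_commuting hx hu2 hux (isCharacter_coe χ) (v χ) (fun i hi =>
      ⟨by simpa using hval χ hχ i hi 1 (Commute.one_left x) (by simp),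
        hval χ hχ i hi u hux.symm hu5⟩) (h1 χ) (h2 χ)
    have h5' : 5 ∣ b χ := Int.natCast_dvd_natCast.mp h5
    obtain ⟨hb0', hblt⟩ := hb0 χ hne
    have hlt : charDegree (χ : G → ℂ) < L := (of_decide_eq_true hdeg).1
    have h2' : 2 ∣ b χ := even_iff_two_dvd.mp (hb χ)
    refine ⟨List.mem_flatMap.mpr ⟨_, List.mem_range.mpr hlt, ?_⟩, rfl⟩
    rw [if_pos hdeg]
    refine List.mem_filterMap.mpr ⟨b χ, List.mem_range.mpr hblt, ?_⟩
    rw [if_pos ⟨hb0', by omega⟩]
    simp [wt, hs]
  · intro hne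
    obtain ⟨hdeg, hs⟩ := fiveDeg_of_mem hG hN hL hne (hv θ hθ) (by exact_mod_cast hcong θ hθ)
    obtain ⟨hb0', hblt⟩ := hb0 θ hne
    have habs : (wt θ).1.natAbs = charDegree (θ : G → ℂ) := by
      rcases hv θ hθ with e | e <;> simp [wt, e]
    have h2' : 2 ∣ b θ := even_iff_two_dvd.mp (hb θ)
    rw [twoOK, habs, hdeg, Bool.true_and, List.any_eq_true]
    exact ⟨b θ, List.mem_range.mpr hblt, decide_eq_true ⟨hb0', by omega, by simp [wt, hs],
      by simp [wt, hs]⟩⟩
  · refine Prod.ext ?_ ?_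
    · rw [Prod.fst_sum]; exact sum_deg_eq_zero hrel
    · rw [Prod.snd_sum]
      have h := hrel u hu5
      rw [Finset.sum_congr rfl fun (χ : IrrCharacter G) _ =>
        show (v χ : ℂ) * (χ : G → ℂ) u = (((wt χ).2 : ℤ) : ℂ) by
          rw [h2 χ]; simp only [wt]; rw [hd χ]; push_cast; ring, ← Int.cast_sum] at h
      exact_mod_cast h
  · exact sum_deg_eq_zero hrel

/-- No element of order three centralises `P` when all four automorphisms are induced. -/
theorem false_of_four_three (hG : ¬ IsMulCommutative G) [Fact (Nat.Prime 5)] (P : Sylow 5 G)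
    (hP : Nat.card (P : Subgroup G) = 5)
    (he : (Subgroup.centralizer ((P : Subgroup G) : Set G)).relIndex
      (Subgroup.normalizer ((P : Subgroup G) : Set G)) = 4)
    (hC : 3 ∣ Nat.card (Subgroup.centralizer ((P : Subgroup G) : Set G)))
    {N L : ℕ} (hN : Nat.card G = N) (hL : N < L * L) (hchk : threeCheck N L = true) : False := by
  haveI : Fact (Nat.Prime 3) := ⟨Nat.prime_three⟩
  have hlin := linear_trivial_of_simple hG
  obtain ⟨x, S, v, θ, hx, hz, hS, hθ, hone, hv1, hv, hcong, hrel, hval⟩ :=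
    exists_signed_block (p := 5) (by norm_num) P hP he
  obtain ⟨u, hu, hu1, hux, hu5⟩ := exists_commuting_element (p := 5) hz 3 (by norm_num) hC
  have hu3 : u ^ 3 = 1 := by rw [← hu, pow_orderOf_eq_one]
  have hdata : ∀ χ : IrrCharacter G, ∃ a b c : ℕ, (χ : G → ℂ) 1 = (a : ℂ) + b + c ∧
      (χ : G → ℂ) u = (a : ℂ) + b * ZMod.stdAddChar (1 : ZMod 3) + c * ZMod.stdAddChar (2 : ZMod 3) ∧
      (χ : G → ℂ) (u ^ 2) =
        (a : ℂ) + b * ZMod.stdAddChar (2 : ZMod 3) + c * ZMod.stdAddChar (1 : ZMod 3) ∧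
      (b + 2 * c) % 3 = 0 := fun χ => exists_mult_three hlin hu3 (isCharacter_coe χ)
  choose a b c h1 h2 h3 hbc using hdata
  set ω : ℂ := ZMod.stdAddChar (1 : ZMod 3) with hω
  have hω2 : ZMod.stdAddChar (2 : ZMod 3) = ω ^ 2 := by rw [hω, ← AddChar.map_nsmul_eq_pow]; rfl
  have hω3 : ω ^ 3 = 1 := by
    rw [hω, ← AddChar.map_nsmul_eq_pow, show (3 : ℕ) • (1 : ZMod 3) = 0 from rfl,
      AddChar.map_zero_eq_one]
  have hω1 : ω ≠ 1 := fun h => by
    have := ZMod.injective_stdAddChar (N := 3) (h.trans (AddChar.map_zero_eq_one _).symm)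
    exact one_ne_zero this
  have hω0 : 1 + ω + ω ^ 2 = 0 :=
    (mul_eq_zero.mp (by linear_combination hω3 : (ω - 1) * (1 + ω + ω ^ 2) = 0)).resolve_left
      (sub_ne_zero.mpr hω1)
  simp only [hω2] at h2
  have hd : ∀ χ : IrrCharacter G, charDegree (χ : G → ℂ) = a χ + b χ + c χ := fun χ =>
    charDegree_eq_of_map_one (by rw [h1 χ]; push_cast; ring)
  have hproper : ∀ χ : IrrCharacter G, χ ≠ oneChar G →
      a χ < charDegree (χ : G → ℂ) ∧ b χ < charDegree (χ : G → ℂ) ∧ c χ < charDegree (χ : G → ℂ) := by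
    intro χ hne
    have hn : ∀ (k : ℕ) (t : ℂ), ‖t‖ = 1 → charDegree (χ : G → ℂ) = k →
        (χ : G → ℂ) u = (k : ℂ) * t → False := by
      intro k t ht hk he'
      obtain ⟨n, ρ, hρ, hρχ⟩ := χ.2
      have hn1 : (χ : G → ℂ) 1 = (n : ℂ) := by rw [← hρχ, Representation.char_one]; simp
      have hn0 : n ≠ 0 := fun e => map_one_ne_zero χ (by rw [hn1, e]; simp)
      have hkn : (k : ℂ) = n := by rw [← hn1, ← coe_charDegree, hk]
      have hc' := rep_eq_smul_of_norm_character_eq ρ (g := u) hn0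
        (by rw [hρχ, he', hkn, norm_mul, ht, mul_one, Complex.norm_natCast])
      have hcentral : u ∈ Subgroup.center G := by
        refine Subgroup.mem_center_iff.mpr fun g => ?_
        have : g * u * g⁻¹ * u⁻¹ = 1 := by
          refine eq_one_of_value_eq_degree hne ?_
          rw [← hρχ]
          show LinearMap.trace ℂ _ (ρ _) = LinearMap.trace ℂ _ (ρ 1)
          have hcen : ρ (g * u * g⁻¹) = ρ u := by
            rw [map_mul, map_mul, hc', mul_smul_comm, mul_one, smul_mul_assoc, ← map_mul,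
              mul_inv_cancel, map_one]
          rw [map_mul, hcen, ← map_mul, mul_inv_cancel]
        calc g * u = g * u * g⁻¹ * u⁻¹ * (u * g) := by group
          _ = u * g := by rw [this, one_mul]
      rcases (Subgroup.center G).normal_of_characteristic.eq_bot_or_eq_top with e | e
      · exact hu1 (Subgroup.mem_bot.mp (e ▸ hcentral))
      · exact hG ⟨⟨fun s t => (Subgroup.mem_center_iff.1 (e ▸ Subgroup.mem_top t) s)⟩⟩
    have hnω : ‖ω‖ = 1 := by
      rw [← pow_left_inj₀ (norm_nonneg _) zero_le_one (by norm_num : 3 ≠ 0), ← norm_pow, hω3,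
        norm_one, one_pow]
    have h := hd χ
    refine ⟨?_, ?_, ?_⟩ <;> by_contra hlt
    · refine hn (a χ) 1 norm_one (by omega) ?_
      rw [h2, show b χ = 0 by omega, show c χ = 0 by omega]; simp
    · refine hn (b χ) ω hnω (by omega) ?_
      rw [h2, show a χ = 0 by omega, show c χ = 0 by omega]; simp
    · refine hn (c χ) (ω ^ 2) (by rw [norm_pow, hnω, one_pow]) (by omega) ?_
      rw [h2, show a χ = 0 by omega, show b χ = 0 by omega]; simp
  have hone' : charDegree (oneChar G : G → ℂ) = 1 := charDegree_linChar 1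
  let wt : IrrCharacter G → ℤ × ℤ × ℤ := fun χ =>
    (v χ * (charDegree (χ : G → ℂ) : ℤ), v χ * ((a χ : ℤ) - c χ), v χ * ((b χ : ℤ) - c χ))
  have hindep : ∀ A B : ℤ, (A : ℂ) + B * ω = 0 → A = 0 ∧ B = 0 := by
    intro A B h
    have hB : B = 0 := by
      by_contra hB
      have hB' : (B : ℂ) ≠ 0 := Int.cast_ne_zero.mpr hB
      have hc1 : conj ω = ω ^ 2 := by
        rw [hω, conj_stdAddChar, ← AddChar.map_nsmul_eq_pow]; rfl
      have h' := congrArg conj h
      rw [map_add, map_mul, map_intCast, map_intCast, map_zero, hc1] at h'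
      have : (B : ℂ) * (ω - ω ^ 2) = 0 := by linear_combination h - h'
      rcases mul_eq_zero.mp this with e | e
      · exact hB' e
      · have hω' : ω * (1 - ω) = 0 := by linear_combination e
        rcases mul_eq_zero.mp hω' with e' | e'
        · rw [e'] at hω3; norm_num at hω3
        · exact hω1 (sub_eq_zero.mp e').symm
    refine ⟨?_, hB⟩
    rw [hB, Int.cast_zero, zero_mul, add_zero] at h
    exact_mod_cast h
  have hone3 : a (oneChar G) = 1 ∧ b (oneChar G) = 0 ∧ c (oneChar G) = 0 := by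
    have e1 := hd (oneChar G)
    rw [hone'] at e1
    have e2 := h2 (oneChar G)
    rw [oneChar_apply] at e2
    obtain ⟨q1, q2⟩ := hindep ((a (oneChar G) : ℤ) - c (oneChar G) - 1)
      ((b (oneChar G) : ℤ) - c (oneChar G))
      (by push_cast; linear_combination -e2 - (c (oneChar G) : ℂ) * hω0)
    omega
  refine false_of_four_check hθ hone hS wt (fun χ => v χ * (charDegree (χ : G → ℂ) : ℤ))
    (threeOpts N L) Prod.fst (threeOK N L) (1, 1, 0) ?_ ?_ ?_ ?_ ?_ ?_ hchk
  · simp [wt, hv1, hone', hone3]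
  · simp [hv1, hone']
  · intro χ hχ hne
    have hχS := Finset.mem_of_mem_erase hχ
    obtain ⟨hdeg, hs⟩ := fiveDeg_of_mem hG hN hL hne (hv χ hχS) (by exact_mod_cast hcong χ hχS)
    obtain ⟨hb5, hc5, ha5⟩ := mult_commuting_three hx hu3 hux (isCharacter_coe χ) (v χ)
      (fun i hi n => hval χ hχ i hi (u ^ n) (hux.symm.pow_left n)
        (fun hd' => hu5 (hd'.trans (orderOf_pow_dvd n))))
      (h1 χ) (by rw [h2 χ, hω2]) (h3 χ) (by norm_num)
    obtain ⟨pa, pb, pc⟩ := hproper χ hne
    have h := hd χ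
    have hlt : charDegree (χ : G → ℂ) < L := (of_decide_eq_true hdeg).1
    have hm := hbc χ
    push_cast at hb5 hc5 ha5
    refine ⟨List.mem_flatMap.mpr ⟨_, List.mem_range.mpr hlt, ?_⟩, rfl⟩
    rw [if_pos hdeg]
    refine List.mem_flatMap.mpr ⟨b χ, List.mem_range.mpr pb, List.mem_filterMap.mpr
      ⟨c χ, List.mem_range.mpr pc, ?_⟩⟩
    have hda : ((charDegree (χ : G → ℂ) : ℤ) - b χ - c χ) = a χ := by rw [h]; push_cast; ring
    rw [if_pos ⟨by omega, by omega, by omega, hm, by omega, by rw [hda, ← hs]; omega⟩, hda]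
    simp [wt, hs]
  · intro hne
    obtain ⟨hdeg, hs⟩ := fiveDeg_of_mem hG hN hL hne (hv θ hθ) (by exact_mod_cast hcong θ hθ)
    obtain ⟨pa, pb, pc⟩ := hproper θ hne
    have h := hd θ
    have hm := hbc θ
    have habs : (wt θ).1.natAbs = charDegree (θ : G → ℂ) := by
      rcases hv θ hθ with e | e <;> simp [wt, e]
    have hA : fiveSign (charDegree (θ : G → ℂ)) * (wt θ).2.1 = (a θ : ℤ) - c θ := by
      show _ * (v θ * _) = _
      rw [hs, ← mul_assoc, fiveSign_mul_self, one_mul]
    have hB : fiveSign (charDegree (θ : G → ℂ)) * (wt θ).2.2 = (b θ : ℤ) - c θ := by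
      show _ * (v θ * _) = _
      rw [hs, ← mul_assoc, fiveSign_mul_self, one_mul]
    simp only [threeOK, habs, hA, hB]
    rw [hdeg, Bool.true_and, decide_eq_true_eq]
    have hc' : ((charDegree (θ : G → ℂ) : ℤ) - ((a θ : ℤ) - c θ) - ((b θ : ℤ) - c θ)) / 3 = c θ := by
      omega
    rw [hc']
    refine ⟨by simp [wt, hs], ?_⟩
    omega
  · have h := hrel u hu5
    rw [Finset.sum_congr rfl fun (χ : IrrCharacter G) _ =>
      show (v χ : ℂ) * (χ : G → ℂ) u = (((wt χ).2.1 : ℤ) : ℂ) + (((wt χ).2.2 : ℤ) : ℂ) * ω by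
        rw [h2 χ]; simp only [wt]; push_cast
        linear_combination ((v χ : ℂ) * (c χ : ℂ)) * hω0,
      Finset.sum_add_distrib, ← Finset.sum_mul, ← Int.cast_sum, ← Int.cast_sum] at h
    obtain ⟨q1, q2⟩ := hindep _ _ h
    refine Prod.ext ?_ (Prod.ext ?_ ?_)
    · rw [Prod.fst_sum]; exact sum_deg_eq_zero hrel
    · rw [Prod.snd_sum, Prod.fst_sum]; exact q1
    · rw [Prod.snd_sum, Prod.snd_sum]; exact q2
  · exact sum_deg_eq_zero hrel

/-- No involution centralises `P` when two automorphisms are induced. -/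
theorem false_of_two_two (hG : ¬ IsMulCommutative G) [Fact (Nat.Prime 5)] (P : Sylow 5 G)
    (hP : Nat.card (P : Subgroup G) = 5)
    (he : (Subgroup.centralizer ((P : Subgroup G) : Set G)).relIndex
      (Subgroup.normalizer ((P : Subgroup G) : Set G)) = 2)
    (hC : 2 ∣ Nat.card (Subgroup.centralizer ((P : Subgroup G) : Set G)))
    {N L : ℕ} (hN : Nat.card G = N) (hL : N < L * L)
    (hkey : ∀ A ∈ List.range L, 10 < A → (A % 5 = 1 ∨ A % 5 = 4) → N % A = 0 →
      (N % (A + 1) ≠ 0 ∨ (A + 1) % 5 = 1 ∨ (A + 1) % 5 = 4 ∨ (A + 1) % 5 = 0) ∧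
      (N % (A - 1) ≠ 0 ∨ (A - 1) % 5 = 1 ∨ (A - 1) % 5 = 4 ∨ (A - 1) % 5 = 0)) : False := by
  haveI : Fact (Nat.Prime 2) := ⟨Nat.prime_two⟩
  obtain ⟨-, x, X, Y, εX, ε, hz, D⟩ := exists_blockData hG P hP _ (by norm_num) he
  obtain ⟨u, hu, hu1, hux, -⟩ := exists_commuting_element (p := 5) hz 2 (by norm_num) hC
  have hu2 : u * u = 1 := by rw [← pow_two, ← hu, pow_orderOf_eq_one]
  have hcard : (X.erase (oneChar G)).card = 1 := by
    classical
    rw [Finset.card_erase_of_mem D.oneX, D.cardX]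
  classical
  obtain ⟨α, hα⟩ := Finset.card_eq_one.mp hcard
  have hm : α ∈ X.erase (oneChar G) := hα ▸ Finset.mem_singleton_self α
  have hαX := Finset.mem_of_mem_erase hm
  have hne := Finset.ne_of_mem_erase hm
  obtain ⟨b, hb0, hbd, hblt, -⟩ := D.two_mul_lt_degree hG (by norm_num) hαX hne hu1 hu2 hux
  obtain ⟨θ, hθ⟩ : Y.Nonempty := Finset.card_pos.mp (by rw [D.cardY]; norm_num)
  have hdeq := D.degree_eq hθ
  rw [← Finset.add_sum_erase _ _ D.oneX, hα, Finset.sum_singleton, D.signOne,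
    show charDegree (oneChar G : G → ℂ) = 1 from charDegree_linChar 1] at hdeq
  set A := charDegree (α : G → ℂ)
  set B := charDegree (θ : G → ℂ)
  have hAL : A < L := by
    have h1 := charDegree_sq_le α
    rw [hN] at h1
    nlinarith
  have h10 : 10 < A := by
    have := Nat.le_of_dvd hb0 hbd
    omega
  have hdA : N % A = 0 := Nat.mod_eq_zero_of_dvd (hN ▸ charDegree_dvd_card α)
  have hdB : N % B = 0 := Nat.mod_eq_zero_of_dvd (hN ▸ charDegree_dvd_card θ)
  have hcA := D.congrX α hαX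
  have hcB := D.congrY θ hθ
  have hA5 : A % 5 = 1 ∨ A % 5 = 4 :=
    (fiveSign_eq (D.signX α hαX) (by exact_mod_cast hcA)).2
  obtain ⟨k1, k2⟩ := hkey A (List.mem_range.mpr hAL) h10 hA5 hdA
  push_cast at hcA hcB hdeq
  rcases D.signX α hαX with e | e <;> rcases D.sign with e' | e' <;>
    rw [e] at hcA hdeq <;> rw [e'] at hcB hdeq <;>
    first
    | omega
    | (rw [show A + 1 = B by omega] at k1; omega)
    | (rw [show A - 1 = B by omega] at k2; omega)

end CfsgLib.PrimeGram
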