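import Mathlib

/-!
Exhaustion of the multisets of a given size drawn from a short list, by kernel computation.
-/

set_option autoImplicit false

namespace CfsgLib.PrimeGram

variable {α W : Type*} [AddCommMonoid W]

/-- `noMultiset good wt opts n w`: no `n` options, with repetition, move `w` to a good weight. -/
def noMultiset (good : W → Bool) (wt : α → W) : List α → ℕ → W → Bool
  | [], n, w => if n = 0 then !good w else true
  | o :: os, n, w =>
    (List.range (n + 1)).all fun k =>
      noMultiset good wt os (n - k) (w + (List.replicate k (wt o)).sum)

theorem noMultiset_sound [DecidableEq α] (good : W → Bool) (wt : α → W) (opts : List α) (n : ℕ)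
    (w : W) (l : List α) (h : noMultiset good wt opts n w = true) (hl : l.length = n)
    (hmem : ∀ a ∈ l, a ∈ opts) : good (w + (l.map wt).sum) = false := by
  induction opts generalizing n w l with
  | nil =>
    have : l = [] := List.eq_nil_iff_forall_not_mem.mpr fun a ha => by simpa using hmem a ha
    subst this
    subst hl
    simpa [noMultiset] using h
  | cons o os ih =>
    set l₂ := l.filter fun a => !decide (a = o) with hl₂
    set l₁ := l.filter fun a => decide (a = o) with hl₁
    have hperm : (l₁ ++ l₂).Perm l := List.filter_append_perm _ l
    have hrep : l₁ = List.replicate l₁.length o :=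
      List.eq_replicate_iff.mpr ⟨rfl, fun a ha => by simpa [hl₁] using (List.mem_filter.mp ha).2⟩
    have hlen : l₁.length + l₂.length = n := by rw [← List.length_append, hperm.length_eq, hl]
    simp only [noMultiset, List.all_eq_true] at h
    have h' := ih _ _ l₂ (h l₁.length (List.mem_range.mpr (by omega))) (by omega) fun a ha => by
      obtain ⟨ha', hne⟩ := List.mem_filter.mp ha
      exact (List.mem_cons.mp (hmem a ha')).resolve_left (by simpa using hne)
    rw [← (hperm.map wt).sum_eq, List.map_append, List.sum_append, ← add_assoc, hrep,
      List.map_replicate]
    exact h'

end CfsgLib.PrimeGram
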