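import Cfsg.Agent.Blocks.PrimeGram.SylowOrbits
import Cfsg.Agent.Blocks.PrimeGram.Multisets

/-!
A self-centralising Sylow subgroup of order `p` whose normaliser induces every automorphism: `p`
characters with values `±1` on it, all others vanishing.
-/

set_option autoImplicit false

namespace CfsgLib.PrimeGram

open Cfsg CfsgLib.Chars
open scoped ComplexConjugate Classical

variable {G : Type*} [Group G] {p : ℕ} [hp : Fact p.Prime]

theorem exists_signs [Finite G] (P : Sylow p G) (hP : Nat.card (P : Subgroup G) = p)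
    (he : (Subgroup.centralizer ((P : Subgroup G) : Set G)).relIndex
      (Subgroup.normalizer ((P : Subgroup G) : Set G)) = p - 1)
    (hC : Nat.card (Subgroup.centralizer ((P : Subgroup G) : Set G)) = p) :
    ∃ (x : G) (S : Finset (IrrCharacter G)) (v : IrrCharacter G → ℤ),
      orderOf x = p ∧ Subgroup.zpowers x = (P : Subgroup G) ∧ S.card = p ∧
      oneChar G ∈ S ∧ v (oneChar G) = 1 ∧
      (∀ χ ∈ S, v χ = 1 ∨ v χ = -1) ∧
      (∀ χ ∈ S, (charDegree (χ : G → ℂ) : ℤ) % (p : ℤ) = v χ % (p : ℤ)) ∧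
      (∀ χ ∈ S, ∀ i : ZMod p, i ≠ 0 → (χ : G → ℂ) (pw p x i) = (v χ : ℂ)) ∧
      ∀ χ ∉ S, (χ : G → ℂ) x = 0 := by
  haveI := Fintype.ofFinite G
  obtain ⟨u₀, hu, hz, hidx⟩ := Blocks.OrderP.exists_generator_sylow P hP
  rw [← hz] at he
  obtain ⟨-, -, hfus, -⟩ := Blocks.OrderP.exists_local_data hu hidx he
  obtain ⟨hS, hCx⟩ := setup_bot hu hz hC
  have hpw : ∀ i : ZMod p, Blocks.OrderP.upow u₀ i = pw p u₀ i := fun i => rfl
  have hconj : ∀ i : ZMod p, i ≠ 0 → IsConj u₀ (pw p u₀ i) := fun i hi => by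
    have h := (hfus 1 i one_ne_zero hi).mpr (by rw [div_one, ZMod.pow_card_sub_one_eq_one hi])
    rwa [hpw, hpw, pw_one] at h
  -- values are rational integers
  have hrat : ∀ χ : IrrCharacter G, ∃ v : ℤ, (∀ i : ZMod p, i ≠ 0 → (χ : G → ℂ) (pw p u₀ i) = v) ∧
      (p : ℤ) ∣ (charDegree (χ : G → ℂ) : ℤ) - v := by
    intro χ
    let φ : Multiplicative (ZMod p) →* G :=
      { toFun := fun q => pw p u₀ q.toAdd
        map_one' := by simp [pw_zero]
        map_mul' := fun a b => by rw [toAdd_mul, pw_add hu] }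
    obtain ⟨n, hn⟩ := exists_nat_sum_hom (isCharacter_coe χ) φ 1
    simp only [MonoidHom.one_apply, Units.val_one, map_one, mul_one] at hn
    have hval : ∀ i : ZMod p, i ≠ 0 → (χ : G → ℂ) (pw p u₀ i) = (χ : G → ℂ) u₀ := fun i hi =>
      (eq_of_isConj (isClassFunction_coe χ) (hconj i hi)).symm
    rw [← Multiplicative.ofAdd.sum_comp, ← Finset.add_sum_erase _ _ (Finset.mem_univ (0 : ZMod p)),
      Finset.sum_congr rfl fun i hi => show (χ : G → ℂ) (φ (Multiplicative.ofAdd i)) = (χ : G → ℂ) u₀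
        from hval i (Finset.ne_of_mem_erase hi),
      Finset.sum_const, Finset.card_erase_of_mem (Finset.mem_univ _), Finset.card_univ, ZMod.card,
      nsmul_eq_mul, Nat.card_congr Multiplicative.toAdd, Nat.card_zmod,
      show (χ : G → ℂ) (φ (Multiplicative.ofAdd 0)) = (charDegree (χ : G → ℂ) : ℂ) by
        rw [coe_charDegree]; simp [φ, pw_zero], Nat.cast_sub hp.out.one_le, Nat.cast_one] at hn
    have hp1 : ((p : ℂ) - 1) ≠ 0 := by
      rw [sub_ne_zero, ← Nat.cast_one, Ne, Nat.cast_inj]; exact hp.out.ne_one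
    have hq : IsIntegral ℤ ((χ : G → ℂ) u₀) := isIntegral_apply (isCharacter_coe χ) u₀
    have heq : (χ : G → ℂ) u₀ =
        algebraMap ℚ ℂ (((p : ℚ) * n - charDegree (χ : G → ℂ)) / ((p : ℚ) - 1)) := by
      rw [map_div₀, map_sub, map_sub, map_mul, map_natCast, map_natCast, map_natCast, map_one,
        eq_div_iff hp1]
      linear_combination hn
    rw [heq, isIntegral_algebraMap_iff (algebraMap ℚ ℂ).injective,
      IsIntegrallyClosed.isIntegral_iff] at hq
    obtain ⟨v, hv⟩ := hq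
    have hvu : (χ : G → ℂ) u₀ = (v : ℂ) := by
      rw [heq, ← hv]; simp
    refine ⟨v, fun i hi => (hval i hi).trans hvu, ⟨(n : ℤ) - v, ?_⟩⟩
    rw [hvu] at hn
    apply Int.cast_injective (α := ℂ)
    push_cast
    linear_combination hn
  choose v hv hvd using hrat
  have hvu : ∀ χ : IrrCharacter G, (χ : G → ℂ) u₀ = (v χ : ℂ) := fun χ => by
    have := hv χ 1 one_ne_zero; rwa [pw_one] at this
  -- block columns: `p` characters with value of absolute value one
  obtain ⟨M, hM⟩ := exists_isPModular p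
  haveI := hM.2.1
  obtain ⟨X, Y, hdisj, hB0, hXc, hYc, εX, ε, hε, hX, -, -⟩ :=
    Blocks.OrderP.principal_block_structure hM hu hidx he
  have hB := Blocks.OrderP.sum_block_columns hM hu hidx hfus 1 1 one_ne_zero one_ne_zero
  rw [div_one, if_pos (Blocks.OrderP.mem_rootSet.mpr (one_pow _))] at hB
  simp only [hpw, pw_one, hvu, hv _ (-1 : ZMod p) (neg_ne_zero.mpr one_ne_zero)] at hB
  have hBset : (principalBlock M G).toFinite.toFinset = X ∪ Y := by
    ext χ; rw [Set.Finite.mem_toFinset, hB0, Finset.mem_union]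
  rw [hBset] at hB
  have hsumB : ∑ χ ∈ X ∪ Y, v χ * v χ = (p : ℤ) := by exact_mod_cast hB
  have hall : ∑ χ : IrrCharacter G, v χ * v χ = (p : ℤ) := by
    have h := sum_irr_mul_conj u₀ u₀
    rw [if_pos (IsConj.refl u₀), hCx] at h
    simp only [hvu, map_intCast] at h
    exact_mod_cast h
  have hXv : ∀ χ ∈ X, v χ * v χ = 1 := fun χ hχ => by
    have h := (hX χ hχ).2.2 u₀ (Subgroup.mem_zpowers u₀)
      (fun h => hp.out.ne_one (by rw [← hu, h, orderOf_one])) 1 (Commute.one_left _)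
      Blocks.OrderP.not_dvd_orderOf_one
    rw [mul_one, hvu] at h
    rw [Int.cast_inj.mp h]
    rcases (hX χ hχ).1 with e | e <;> rw [e] <;> norm_num
  have h2 : (p - 1) / (p - 1) = 1 := Nat.div_self (by have := hp.out.two_le; omega)
  rw [h2] at hYc
  obtain ⟨θ, hθ⟩ := Finset.card_eq_one.mp hYc
  have hθv : v θ * v θ = 1 := by
    rw [Finset.sum_union hdisj, hθ, Finset.sum_singleton, Finset.sum_congr rfl hXv,
      Finset.sum_const, hXc] at hsumB
    simp only [nsmul_eq_mul, mul_one] at hsumB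
    have := hp.out.two_le
    push_cast [Nat.cast_sub (show 1 ≤ p by omega)] at hsumB
    linarith
  have hSv : ∀ χ ∈ X ∪ Y, v χ = 1 ∨ v χ = -1 := fun χ hχ => mul_self_eq_one_iff.mp (by
    rcases Finset.mem_union.mp hχ with h | h
    · exact hXv χ h
    · rw [hθ, Finset.mem_singleton] at h; rw [h]; exact hθv)
  refine ⟨u₀, X ∪ Y, v, hu, hz, ?_, ?_, ?_, hSv, fun χ _ => ?_, fun χ _ => hv χ, fun χ hχ => ?_⟩
  · rw [Finset.card_union_of_disjoint hdisj, hXc, hYc]; have := hp.out.two_le; omega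
  · rw [← hBset, Set.Finite.mem_toFinset]; exact Blocks.oneChar_mem_principalBlock_of_finite G
  · have := hvu (oneChar G); rw [oneChar_apply] at this; exact_mod_cast this.symm
  · exact Int.ModEq.symm ((Int.modEq_iff_dvd).mpr (hvd χ))
  · rw [← Finset.sum_add_sum_compl (X ∪ Y), hsumB, add_eq_left] at hall
    have h0 := (Finset.sum_eq_zero_iff_of_nonneg fun ψ _ => mul_self_nonneg (v ψ)).mp hall χ
      (Finset.mem_compl.mpr hχ)
    rw [hvu, mul_self_eq_zero.mp h0, Int.cast_zero]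

end CfsgLib.PrimeGram
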