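import Cfsg.Agent.Blocks.PrimeGram.Involution

/-!
The principal block of a simple group with a Sylow subgroup of order `p`, packaged, and the
restrictions its character values put on the centraliser of that subgroup.
-/

set_option autoImplicit false

namespace CfsgLib.PrimeGram

open Cfsg CfsgLib.Chars
open scoped ComplexConjugate Classical

/-- The non-exceptional part `X` (containing the principal character), the exceptional part `Y`
and the signs of the principal block. -/
structure BlockData (G : Type*) [Group G] (p e : ℕ) (x : G)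
    (X Y : Finset (IrrCharacter G)) (εX : IrrCharacter G → ℤ) (ε : ℤ) : Prop where
  order : orderOf x = p
  cardX : X.card = e
  cardY : Y.card = (p - 1) / e
  disj : Disjoint X Y
  oneX : oneChar G ∈ X
  signOne : εX (oneChar G) = 1
  sign : ε = 1 ∨ ε = -1
  signX : ∀ χ ∈ X, εX χ = 1 ∨ εX χ = -1
  congrX : ∀ χ ∈ X, (charDegree (χ : G → ℂ) : ℤ) % (p : ℤ) = εX χ % (p : ℤ)
  valueX : ∀ χ ∈ X, ∀ i : ZMod p, i ≠ 0 → ∀ y : G, Commute y x → ¬ p ∣ orderOf y →
    (χ : G → ℂ) (pw p x i * y) = (εX χ : ℂ)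
  congrY : ∀ θ ∈ Y, (charDegree (θ : G → ℂ) : ℤ) % (p : ℤ) = (ε * e) % (p : ℤ)
  rel : ∀ θ ∈ Y, ∀ g : G, ¬ p ∣ orderOf g →
    (ε : ℂ) * (θ : G → ℂ) g = ∑ χ ∈ X, (εX χ : ℂ) * (χ : G → ℂ) g
  vanish : Nat.card (Subgroup.centralizer ({x} : Set G)) = p → ∀ χ, χ ∉ X → χ ∉ Y →
    (χ : G → ℂ) x = 0

variable {G : Type*} [Group G] {p : ℕ} [hp : Fact p.Prime]

theorem exists_blockData [Finite G] [IsSimpleGroup G] (hG : ¬ IsMulCommutative G) (P : Sylow p G)
    (hP : Nat.card (P : Subgroup G) = p) (e : ℕ) (hep : e + 1 < p)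
    (he : (Subgroup.centralizer ((P : Subgroup G) : Set G)).relIndex
      (Subgroup.normalizer ((P : Subgroup G) : Set G)) = e) :
    2 ≤ e ∧ ∃ (x : G) (X Y : Finset (IrrCharacter G)) (εX : IrrCharacter G → ℤ) (ε : ℤ),
      Subgroup.zpowers x = (P : Subgroup G) ∧ BlockData G p e x X Y εX ε := by
  haveI := Fintype.ofFinite G
  obtain ⟨M, hM⟩ := exists_isPModular p
  haveI := hM.2.1
  obtain ⟨u₀, hu, hz, hidx⟩ := Blocks.OrderP.exists_generator_sylow P hP
  rw [← hz] at he
  obtain ⟨hediv, hepos, hfus, -⟩ := Blocks.OrderP.exists_local_data hu hidx he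
  obtain ⟨X, Y, hdisj, hB0, hXc, hYc, εX, ε, hε, hX, hY, hrel⟩ :=
    Blocks.OrderP.principal_block_structure hM hu hidx he
  have he2 : 2 ≤ e := by
    by_contra h
    have hd : p ∣ Nat.card G := hP ▸ Subgroup.card_subgroup_dvd_card _
    apply SmallSimple.not_normalizer_le_centralizer hG p hd P
    rw [← hz]
    exact Subgroup.relIndex_eq_one.mp (by omega)
  have hone : oneChar G ∈ X := by
    rcases (hB0 _).mp (Blocks.oneChar_mem_principalBlock_of_finite G) with h | h
    · exact h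
    · exfalso
      have := hY _ h
      rw [show charDegree (oneChar G : G → ℂ) = 1 from charDegree_linChar 1, Int.modEq_iff_dvd] at this
      push_cast at this
      rcases hε with rfl | rfl
      · have h2 := Int.le_of_dvd (by omega) this; omega
      · obtain ⟨d, hd⟩ := this
        have h2 : (p : ℤ) ∣ (e : ℤ) + 1 := ⟨-d, by linear_combination -hd⟩
        have := Int.le_of_dvd (by omega) h2; omega
  have hpw : ∀ i : ZMod p, i ≠ 0 → pw p u₀ i ∈ Subgroup.zpowers u₀ ∧ pw p u₀ i ≠ 1 := fun i hi =>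
    ⟨Subgroup.pow_mem _ (Subgroup.mem_zpowers u₀) _, fun h => hi ((pw_eq_one_iff hu i).mp h)⟩
  have hval : ∀ χ ∈ X, ∀ i : ZMod p, i ≠ 0 → ∀ y : G, Commute y u₀ → ¬ p ∣ orderOf y →
      (χ : G → ℂ) (pw p u₀ i * y) = (εX χ : ℂ) := fun χ hχ i hi y hy hy' =>
    (hX χ hχ).2.2 _ (hpw i hi).1 (hpw i hi).2 y hy hy'
  refine ⟨he2, u₀, X, Y, εX, ε, hz, hu, hXc, hYc, hdisj, hone, ?_, hε, fun χ hχ => (hX χ hχ).1,
    fun χ hχ => (hX χ hχ).2.1, hval, hY, hrel, fun hC χ hχX hχY => ?_⟩
  · have := hval _ hone 1 one_ne_zero 1 (Commute.one_left _) Blocks.OrderP.not_dvd_orderOf_one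
    rw [oneChar_apply] at this
    exact_mod_cast this.symm
  · have hB := Blocks.OrderP.sum_block_columns hM hu hidx hfus 1 1 one_ne_zero one_ne_zero
    rw [div_one, if_pos (Blocks.OrderP.mem_rootSet.mpr (one_pow e))] at hB
    have e1 : Blocks.OrderP.upow u₀ (1 : ZMod p) = u₀ := by
      haveI : Fact (1 < p) := ⟨hp.out.one_lt⟩
      simp [Blocks.OrderP.upow, ZMod.val_one]
    have hall := sum_irr_mul_conj u₀ u₀
    rw [if_pos (IsConj.refl u₀), hC] at hall
    simp only [← Blocks.OrderP.conj_apply_upow hu, e1] at hB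
    rw [← Finset.sum_add_sum_compl (principalBlock M G).toFinite.toFinset, hB, add_eq_left] at hall
    have hmem : χ ∈ ((principalBlock M G).toFinite.toFinset)ᶜ := by
      rw [Finset.mem_compl, Set.Finite.mem_toFinset, hB0]
      exact fun h => h.elim hχX hχY
    have hre := congrArg Complex.re hall
    rw [Complex.re_sum, Complex.zero_re] at hre
    simp only [Complex.mul_conj, Complex.ofReal_re] at hre
    exact Complex.normSq_eq_zero.mp
      ((Finset.sum_eq_zero_iff_of_nonneg fun ψ _ => Complex.normSq_nonneg _).mp hre χ hmem)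

variable {e : ℕ} {x : G} {X Y : Finset (IrrCharacter G)} {εX : IrrCharacter G → ℤ} {ε : ℤ}

/-- The degree of an exceptional character in terms of those of `X`. -/
theorem BlockData.degree_eq (D : BlockData G p e x X Y εX ε) {θ : IrrCharacter G} (hθ : θ ∈ Y) :
    ε * (charDegree (θ : G → ℂ) : ℤ) =
      ∑ χ ∈ X, εX χ * (charDegree (χ : G → ℂ) : ℤ) := by
  have h := D.rel θ hθ 1 (by simp [hp.out.ne_one])
  simp only [← coe_charDegree] at h
  exact_mod_cast h

/-- A nonprincipal member of `X` of degree less than `p` forces `C(⟨x⟩)` to be a `p`-group. -/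
theorem BlockData.eq_one_of_small [Finite G] [IsSimpleGroup G] (D : BlockData G p e x X Y εX ε)
    {χ : IrrCharacter G} (hχ : χ ∈ X) (hne : χ ≠ oneChar G) (hd : charDegree (χ : G → ℂ) < p)
    {u : G} (hc : Commute x u) (hu : ¬ p ∣ orderOf u) : u = 1 := by
  haveI := Fintype.ofFinite G
  set d := charDegree (χ : G → ℂ) with hddef
  have hd1 : (χ : G → ℂ) 1 = d := (coe_charDegree χ).symm
  let φ : Multiplicative (ZMod p) × Subgroup.zpowers u →* G :=
    { toFun := fun q => pw p x q.1.toAdd * q.2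
      map_one' := by simp [pw_zero]
      map_mul' := fun a b => by
        have hcm : Commute (pw p x b.1.toAdd) (a.2 : G) := by
          obtain ⟨k, hk⟩ := Subgroup.mem_zpowers_iff.mp a.2.2
          rw [← hk]; exact ((hc.pow_left _).zpow_right k)
        simp only [Prod.fst_mul, Prod.snd_mul, toAdd_mul, Subgroup.coe_mul, pw_add D.order]
        rw [mul_assoc, ← mul_assoc (pw p x b.1.toAdd), hcm.eq]
        simp only [mul_assoc] }
  obtain ⟨n, hn⟩ := exists_nat_sum_hom (isCharacter_coe χ) φ 1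
  obtain ⟨n', hn'⟩ := exists_nat_sum_hom (isCharacter_coe χ) (Subgroup.zpowers u).subtype 1
  simp only [MonoidHom.one_apply, Units.val_one, map_one, mul_one, Subgroup.coe_subtype] at hn hn'
  have hval : ∀ i : ZMod p, i ≠ 0 → ∀ y : Subgroup.zpowers u,
      (χ : G → ℂ) (pw p x i * y) = (εX χ : ℂ) := by
    intro i hi y
    obtain ⟨k, hk⟩ := Subgroup.mem_zpowers_iff.mp y.2
    refine D.valueX χ hχ i hi _ ?_ fun h => hu (h.trans ?_)
    · rw [← hk]; exact (hc.zpow_right k).symm
    · exact (Nat.card_zpowers u) ▸ Subgroup.orderOf_dvd_natCard _ y.2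
  have hφ : ∀ q, φ q = pw p x q.1.toAdd * (q.2 : G) := fun q => rfl
  set m := Nat.card (Subgroup.zpowers u) with hm
  have hm0 : (m : ℂ) ≠ 0 := Nat.cast_ne_zero.mpr Nat.card_pos.ne'
  have hsplit : ∑ q : Multiplicative (ZMod p) × Subgroup.zpowers u, (χ : G → ℂ) (φ q) =
      (m : ℂ) * n' + ((p : ℂ) - 1) * ((m : ℂ) * εX χ) := by
    rw [Fintype.sum_prod_type, ← Multiplicative.ofAdd.sum_comp,
      ← Finset.add_sum_erase _ _ (Finset.mem_univ (0 : ZMod p))]
    congr 1
    · simp only [hφ, toAdd_ofAdd, pw_zero, one_mul]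
      exact hn'
    · rw [Finset.sum_congr rfl fun i hi => (?_ : _ = (m : ℂ) * εX χ), Finset.sum_const,
        Finset.card_erase_of_mem (Finset.mem_univ _), Finset.card_univ, ZMod.card, nsmul_eq_mul,
        Nat.cast_sub hp.out.one_le, Nat.cast_one]
      simp only [hφ, toAdd_ofAdd, hval i (Finset.ne_of_mem_erase hi), Finset.sum_const,
        Finset.card_univ, ← Nat.card_eq_fintype_card, nsmul_eq_mul, hm]
  rw [hsplit, Nat.card_prod, Nat.card_congr Multiplicative.toAdd, Nat.card_zmod] at hn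
  push_cast at hn
  have hN : (n' : ℤ) = (p : ℤ) * ((n : ℤ) - εX χ) + εX χ := by
    apply Int.cast_injective (α := ℂ); push_cast
    apply mul_left_cancel₀ hm0
    linear_combination hn
  have hle : ∀ y : G, ((χ : G → ℂ) y).re ≤ d := fun y => by
    refine (Complex.re_le_norm _).trans ((norm_apply_le (isCharacter_coe χ) y).trans_eq ?_)
    rw [hd1, Complex.norm_natCast]
  have hsumre : ∑ y : Subgroup.zpowers u, ((χ : G → ℂ) y).re = (m : ℝ) * n' := by
    rw [← Complex.re_sum, hn']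
    simp [hm]
  have hn'le : n' ≤ d := by
    have : (m : ℝ) * n' ≤ m * d := by
      rw [← hsumre]
      refine le_trans (Finset.sum_le_sum fun (y : Subgroup.zpowers u) _ => hle (y : G)) (le_of_eq ?_)
      simp [hm, ← Nat.card_eq_fintype_card]
    exact_mod_cast le_of_mul_le_mul_left this (by exact_mod_cast Nat.card_pos)
  have hn'd : n' = d := by
    have h1 := D.congrX χ hχ
    have h2 : (n' : ℤ) % p = εX χ % p := by rw [hN, add_comm, Int.add_mul_emod_self_left]
    rw [← hddef, ← h2, Int.emod_eq_of_lt (by positivity) (by exact_mod_cast hd),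
      Int.emod_eq_of_lt (by positivity) (by omega)] at h1
    omega
  have hall : ∑ y : Subgroup.zpowers u, ((d : ℝ) - ((χ : G → ℂ) y).re) = 0 := by
    rw [Finset.sum_sub_distrib, hsumre, hn'd]
    simp [hm, ← Nat.card_eq_fintype_card]
  have hre : ((χ : G → ℂ) u).re = d := by
    have := (Finset.sum_eq_zero_iff_of_nonneg fun (y : Subgroup.zpowers u) _ =>
      sub_nonneg.mpr (hle (y : G))).mp hall ⟨u, Subgroup.mem_zpowers u⟩ (Finset.mem_univ _)
    linarith
  refine eq_one_of_value_eq_degree hne ?_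
  have hnorm : ‖(χ : G → ℂ) u‖ ≤ d :=
    (norm_apply_le (isCharacter_coe χ) u).trans_eq (by rw [hd1, Complex.norm_natCast])
  have hsq : ((χ : G → ℂ) u).re ^ 2 + ((χ : G → ℂ) u).im ^ 2 ≤ (d : ℝ) ^ 2 := by
    rw [show ((χ : G → ℂ) u).re ^ 2 + ((χ : G → ℂ) u).im ^ 2 = ‖(χ : G → ℂ) u‖ ^ 2 by
      rw [← Complex.normSq_eq_norm_sq, Complex.normSq_apply]; ring]
    exact pow_le_pow_left₀ (norm_nonneg _) hnorm 2
  rw [hre] at hsq
  have him : ((χ : G → ℂ) u).im = 0 := by nlinarith [sq_nonneg ((χ : G → ℂ) u).im]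
  rw [hd1]
  exact Complex.ext (by simp [hre]) (by simp [him])

/-- An involution commuting with `x`: a nonprincipal member of `X` has degree more than `2p`. -/
theorem BlockData.two_mul_lt_degree [Finite G] [IsSimpleGroup G] (hG : ¬ IsMulCommutative G)
    (D : BlockData G p e x X Y εX ε) (hp2 : p ≠ 2)
    {χ : IrrCharacter G} (hχ : χ ∈ X) (hne : χ ≠ oneChar G)
    {u : G} (hu1 : u ≠ 1) (hu2 : u * u = 1) (hc : Commute x u) :
    ∃ b : ℕ, 0 < b ∧ 2 * p ∣ b ∧ b < charDegree (χ : G → ℂ) ∧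
      (χ : G → ℂ) u = (charDegree (χ : G → ℂ) : ℂ) - 2 * b := by
  obtain ⟨a, b, h1, h2, hb⟩ := exists_even_neg (linear_trivial_of_simple hG) hu2 (isCharacter_coe χ)
  have hou : orderOf u = 2 := orderOf_eq_prime (by rw [pow_two, hu2]) hu1
  have hpu : ¬ p ∣ orderOf u := by
    rw [hou]; exact fun h => hp2 ((Nat.prime_dvd_prime_iff_eq hp.out Nat.prime_two).mp h)
  have hone : ¬ p ∣ orderOf (1 : G) := by simp [hp.out.ne_one]
  obtain ⟨hpb, -⟩ := mult_commuting D.order hu2 hc (isCharacter_coe χ) (εX χ) (fun i hi =>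
    ⟨by simpa using D.valueX χ hχ i hi 1 (Commute.one_left x) hone,
     D.valueX χ hχ i hi u hc.symm hpu⟩) h1 h2
  have hd : charDegree (χ : G → ℂ) = a + b := charDegree_eq_of_map_one (by rw [h1]; push_cast; ring)
  have hb0 : b ≠ 0 := fun h0 => hu1 (eq_one_of_value_eq_degree hne (by rw [h2, h1, h0]; simp))
  have ha0 : a ≠ 0 := by
    intro h0
    -- then `u` acts as the scalar `-1`, hence is central
    have hn : ‖(χ : G → ℂ) u‖ = ‖(χ : G → ℂ) 1‖ := by rw [h2, h1, h0]; simp
    obtain ⟨n, ρ, hρ, hρχ⟩ := χ.2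
    have hcen : ∀ g : G, ρ (g * u * g⁻¹) = ρ u := by
      intro g
      have hn1 : (χ : G → ℂ) 1 = (n : ℂ) := by rw [← hρχ, Representation.char_one]; simp
      have hn0 : n ≠ 0 := fun e => map_one_ne_zero χ (by rw [hn1, e]; simp)
      have hc' := rep_eq_smul_of_norm_character_eq ρ (g := u) hn0
        (by rw [hρχ, hn, hn1, Complex.norm_natCast])
      rw [map_mul, map_mul, hc', mul_smul_comm, mul_one, smul_mul_assoc, ← map_mul, mul_inv_cancel,
        map_one]
    have hcentral : u ∈ Subgroup.center G := by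
      refine Subgroup.mem_center_iff.mpr fun g => ?_
      have : g * u * g⁻¹ * u⁻¹ = 1 := by
        refine eq_one_of_value_eq_degree hne ?_
        rw [← hρχ]
        show LinearMap.trace ℂ _ (ρ _) = LinearMap.trace ℂ _ (ρ 1)
        rw [map_mul, hcen, ← map_mul, mul_inv_cancel]
      calc g * u = g * u * g⁻¹ * u⁻¹ * (u * g) := by group
        _ = u * g := by rw [this, one_mul]
    rcases (Subgroup.center G).normal_of_characteristic.eq_bot_or_eq_top with e | e
    · exact hu1 (Subgroup.mem_bot.mp (e ▸ hcentral))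
    · exact hG ⟨⟨fun s t => (Subgroup.mem_center_iff.1 (e ▸ Subgroup.mem_top t) s)⟩⟩
  have h2b : 2 ∣ b := even_iff_two_dvd.mp hb
  have hpb' : p ∣ b := Int.natCast_dvd_natCast.mp hpb
  refine ⟨b, Nat.pos_of_ne_zero hb0, Nat.Coprime.mul_dvd_of_dvd_of_dvd
    ((Nat.coprime_primes Nat.prime_two hp.out).mpr (Ne.symm hp2)) h2b hpb', by omega, ?_⟩
  rw [h2, hd]; push_cast; ring

end CfsgLib.PrimeGram
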