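import Cfsg.Agent.Blocks.PrimeGram.PrincipalData

/-!
Small tools for excluding group orders with the principal block of a Sylow subgroup of prime order.
-/

set_option autoImplicit false

namespace CfsgLib.PrimeGram

open Cfsg CfsgLib.Chars
open scoped Classical

variable {G : Type*} [Group G] [Finite G] [IsSimpleGroup G] {p : ℕ} [hp : Fact p.Prime]

/-- The index `e` of the centraliser in the normaliser and the size of the complement. -/
theorem exists_index_split (hG : ¬ IsMulCommutative G) (P : Sylow p G)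
    (hP : Nat.card (P : Subgroup G) = p) {k : ℕ}
    (hN : Nat.card (Subgroup.normalizer ((P : Subgroup G) : Set G)) = p * k) :
    ∃ e c : ℕ, (Subgroup.centralizer ((P : Subgroup G) : Set G)).relIndex
        (Subgroup.normalizer ((P : Subgroup G) : Set G)) = e ∧
      Nat.card (Subgroup.centralizer ((P : Subgroup G) : Set G)) = p * c ∧
      e * c = k ∧ e ≠ 1 ∧ e ∣ p - 1 := by
  have hd : p ∣ Nat.card G := hP ▸ Subgroup.card_subgroup_dvd_card _
  haveI := isCyclic_of_prime_card hP
  obtain ⟨c, hc⟩ : p ∣ Nat.card (Subgroup.centralizer ((P : Subgroup G) : Set G)) :=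
    hP.symm.dvd.trans (Subgroup.card_dvd_of_le (Subgroup.le_centralizer (P : Subgroup G)))
  refine ⟨_, c, rfl, hc, ?_, ?_, ?_⟩
  · have h := relIndex_mul_centralizer (P : Subgroup G)
    rw [hc, hN, mul_left_comm] at h
    exact Nat.eq_of_mul_eq_mul_left hp.out.pos h
  · exact fun h => SmallSimple.not_normalizer_le_centralizer hG p hd P (Subgroup.relIndex_eq_one.mp h)
  · haveI := Fintype.ofFinite G
    obtain ⟨u₀, hu, hz, hidx⟩ := Blocks.OrderP.exists_generator_sylow P hP
    rw [← hz]
    exact (Blocks.OrderP.exists_local_data hu hidx rfl).1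

omit [IsSimpleGroup G] hp in
theorem commute_of_mem_centralizer {x : G} {H : Subgroup G} (h : Subgroup.zpowers x = H) {u : G}
    (hu : u ∈ Subgroup.centralizer (H : Set G)) : Commute x u :=
  hu x (h ▸ Subgroup.mem_zpowers x)

omit [IsSimpleGroup G] in
/-- An element of prime order `q` in the centraliser of `P`. -/
theorem exists_commuting_element {x : G} {H : Subgroup G} (h : Subgroup.zpowers x = H) (q : ℕ)
    [Fact q.Prime] (hqp : q ≠ p) (hq : q ∣ Nat.card (Subgroup.centralizer (H : Set G))) :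
    ∃ u : G, orderOf u = q ∧ u ≠ 1 ∧ Commute x u ∧ ¬ p ∣ orderOf u := by
  obtain ⟨⟨u, hu⟩, ho⟩ := exists_prime_orderOf_dvd_card' q hq
  rw [Subgroup.orderOf_mk] at ho
  refine ⟨u, ho, fun h1 => ?_, commute_of_mem_centralizer h hu, ?_⟩
  · rw [h1, orderOf_one] at ho; exact (Fact.out : q.Prime).ne_one ho.symm
  · rw [ho]; exact fun hd => hqp ((Nat.prime_dvd_prime_iff_eq hp.out Fact.out).mp hd).symm

omit [IsSimpleGroup G] in
/-- When `C(P) = P` the hypotheses of `Setup` hold with trivial complement. -/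
theorem setup_bot {x : G} (hx : orderOf x = p) {H : Subgroup G} (h : Subgroup.zpowers x = H)
    (hc : Nat.card (Subgroup.centralizer (H : Set G)) = p) :
    Setup p x (⊥ : Subgroup G) ∧ Nat.card (Subgroup.centralizer ({x} : Set G)) = p := by
  have hC : Subgroup.centralizer ({x} : Set G) = Subgroup.centralizer (H : Set G) := by
    rw [← h, ← Subgroup.centralizer_closure, ← Subgroup.zpowers_eq_closure]
  refine ⟨⟨hx, fun u hu => by rw [Subgroup.mem_bot.mp hu]; exact Commute.one_right x,
    by rw [Subgroup.card_bot, Nat.dvd_one]; exact hp.out.ne_one, fun c hcx => ?_⟩, by rw [hC, hc]⟩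
  have hle : H ≤ Subgroup.centralizer ({x} : Set G) := by
    rw [← h, Subgroup.zpowers_le, Subgroup.mem_centralizer_singleton_iff]
  have he : H = Subgroup.centralizer ({x} : Set G) := Subgroup.eq_of_le_of_card_ge hle
    (by rw [hC, hc, ← h, Nat.card_zpowers, hx])
  have hcm : c ∈ Subgroup.zpowers x := by
    rw [h, he]; exact Subgroup.mem_centralizer_singleton_iff.mpr hcx
  obtain ⟨n, hn⟩ := mem_powers_iff_mem_zpowers.mpr hcm
  exact ⟨(n : ZMod p), 1, Subgroup.one_mem _, by
    rw [mul_one]; exact hn.symm.trans (pw_eq_of_natCast hx n).symm⟩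

/-- With `e` even, an involution inverts `x`. -/
theorem exists_inverting {x : G} (hx : orderOf x = p) (hp2 : p ≠ 2) {H : Subgroup G}
    (h : Subgroup.zpowers x = H) (hN : 2 ∣ Nat.card (Subgroup.normalizer (H : Set G)))
    (hC : ¬ 2 ∣ Nat.card (Subgroup.centralizer (H : Set G))) :
    ∃ z : G, z ≠ 1 ∧ z * z = 1 ∧ z * x * z⁻¹ = x⁻¹ := by
  haveI := Fintype.ofFinite G
  haveI : Fact (Nat.Prime 2) := ⟨Nat.prime_two⟩
  obtain ⟨⟨z, hz⟩, ho⟩ := exists_prime_orderOf_dvd_card' 2 hN
  rw [Subgroup.orderOf_mk] at ho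
  have hz2 : z * z = 1 := by rw [← pow_two, ← ho, pow_orderOf_eq_one]
  have hz1 : z ≠ 1 := fun e => by rw [e, orderOf_one] at ho; norm_num at ho
  refine ⟨z, hz1, hz2, ?_⟩
  rw [← h] at hz
  have hm := (mem_nset_iff_mem_normalizer hx).mpr hz
  have hzc : z * z * x * (z * z)⁻¹ = x := by rw [hz2]; group
  have hsq : hexp p x z * hexp p x z = 1 := by
    apply pw_injective hx
    rw [pw_one, ← conj_pw hx hm, ← hexp_spec hm]
    calc z * (z * x * z⁻¹) * z⁻¹ = z * z * x * (z * z)⁻¹ := by group
      _ = x := hzc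
  rcases mul_self_eq_one_iff.mp hsq with e | e
  · exfalso
    refine hC ?_
    have hcomm : z ∈ Subgroup.centralizer (H : Set G) := by
      rw [← h, Subgroup.zpowers_eq_closure, Subgroup.centralizer_closure,
        Subgroup.mem_centralizer_singleton_iff]
      have := hexp_spec hm
      rw [e, pw_one, mul_inv_eq_iff_eq_mul] at this
      exact this
    exact ho ▸ Subgroup.orderOf_dvd_natCard _ hcomm
  · rw [hexp_spec hm, e]
    exact eq_inv_of_mul_eq_one_left (by
      conv_lhs => arg 2; rw [← pw_one (p := p) (x := x)]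
      rw [← pw_add hx, neg_add_cancel, pw_zero])

end CfsgLib.PrimeGram
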