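import Cfsg.Agent.Blocks.PrimeGram.SieveTools
import Cfsg.Agent.SimpleOrders.SylowAction

/-!
Elements commuting with an element of prime order, seen on the Sylow subgroups, and integrality
bounds for centralisers.
-/

set_option autoImplicit false

namespace CfsgLib.PrimeGram

open Cfsg CfsgLib.Chars
open scoped Classical Pointwise

variable {G : Type*} [Group G] [Finite G] [IsSimpleGroup G] {p : ℕ} [hp : Fact p.Prime]

omit [IsSimpleGroup G] in
/-- A power of `x` fixing a Sylow subgroup other than that of `x` is trivial. -/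
theorem eq_zero_of_pw_smul {P Q : Sylow p G} {x : G} (hx : orderOf x = p)
    (hz : Subgroup.zpowers x = (P : Subgroup G)) (hQ : Q ≠ P) {i : ZMod p}
    (h : pw p x i • Q = Q) : i = 0 := by
  by_contra hi
  apply hQ
  have hmem : pw p x i ∈ (P : Subgroup G) := by
    rw [← hz]; exact Subgroup.pow_mem _ (Subgroup.mem_zpowers x) _
  have hxQ := SimpleOrders.mem_of_smul_eq hmem h
  have hxQ' : x ∈ (Q : Subgroup G) := by
    have h2 := Subgroup.pow_mem _ hxQ (i⁻¹).val
    rw [pw_pow hx, ZMod.natCast_zmod_val, mul_inv_cancel₀ hi, pw_one] at h2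
    exact h2
  refine (Sylow.ext (Subgroup.eq_of_le_of_card_ge ?_ ?_)).symm
  · rw [← hz]; exact Subgroup.zpowers_le.mpr hxQ'
  · exact (Nat.card_congr (Q.equiv P).toEquiv).le

/-- If `n ≤ p q` no element of prime order `q ≠ p` centralises a Sylow subgroup of order `p`,
where `n` is the number of Sylow `p`-subgroups. -/
theorem not_dvd_card_centralizer (hG : ¬ IsMulCommutative G) (P : Sylow p G)
    (hP : Nat.card (P : Subgroup G) = p) (q : ℕ) [hq : Fact q.Prime] (hqp : q ≠ p)
    (hn : Nat.card (Sylow p G) ≤ p * q) :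
    ¬ q ∣ Nat.card (Subgroup.centralizer ((P : Subgroup G) : Set G)) := by
  intro hd
  haveI := Fintype.ofFinite G
  haveI : Fintype (Sylow p G) := Fintype.ofFinite _
  obtain ⟨u₀, hu₀, hz, -⟩ := Blocks.OrderP.exists_generator_sylow P hP
  obtain ⟨u, hu, hu1, hux, -⟩ := exists_commuting_element (p := p) hz q hqp hd
  have huP : ∀ k : ℕ, u ^ k • P = P := fun k => by
    rw [SimpleOrders.smul_eq_self_iff]
    refine Subgroup.centralizer_le_normalizer _ ?_
    rw [← hz, Subgroup.zpowers_eq_closure, Subgroup.centralizer_closure,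
      Subgroup.mem_centralizer_singleton_iff]
    exact (hux.pow_right k).symm.eq
  have hxP : ∀ i : ZMod p, pw p u₀ i • P = P := fun i => by
    rw [SimpleOrders.smul_eq_self_iff]
    exact Subgroup.le_normalizer (hz ▸ Subgroup.pow_mem _ (Subgroup.mem_zpowers u₀) _)
  apply hu1
  apply SimpleOrders.toPermHom_injective (p := p) hG (hP ▸ Subgroup.card_subgroup_dvd_card _)
  rw [map_one]
  ext Q : 1
  show u • Q = Q
  by_cases hQ : Q = P
  · subst hQ; simpa using huP 1
  -- the images `x ^ i u ^ k Q` avoid `P`, so two of them coincide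
  let f : ZMod p × Fin q → Sylow p G := fun t => (pw p u₀ t.1 * u ^ (t.2 : ℕ)) • Q
  have hmem : ∀ t ∈ (Finset.univ : Finset (ZMod p × Fin q)), f t ∈ Finset.univ.erase P := by
    intro t _
    refine Finset.mem_erase.mpr ⟨fun e => hQ ?_, Finset.mem_univ _⟩
    refine smul_left_cancel (pw p u₀ t.1 * u ^ (t.2 : ℕ)) ?_
    rw [show (pw p u₀ t.1 * u ^ (t.2 : ℕ)) • Q = P from e, mul_smul, huP, hxP]
  have hlt : (Finset.univ.erase P).card < (Finset.univ : Finset (ZMod p × Fin q)).card := by
    rw [Finset.card_erase_of_mem (Finset.mem_univ _), Finset.card_univ, Finset.card_univ,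
      Fintype.card_prod, ZMod.card, Fintype.card_fin, ← Nat.card_eq_fintype_card]
    have := hp.out.pos
    have := hq.out.pos
    have : 0 < p * q := Nat.mul_pos hp.out.pos hq.out.pos
    omega
  obtain ⟨⟨i, k⟩, -, ⟨j, l⟩, -, hne, heq⟩ :=
    Finset.exists_ne_map_eq_of_card_lt_of_maps_to hlt hmem
  -- an exponent prime to `q` moving `Q` inside its orbit
  obtain ⟨d, hd0, hdQ⟩ : ∃ d : ℕ, ¬ q ∣ d ∧ ∃ a : ZMod p, u ^ d • Q = pw p u₀ a • Q := by
    have hkl : k ≠ l := by
      rintro rfl
      have h1 : pw p u₀ (i - j) • (u ^ (k : ℕ) • Q) = u ^ (k : ℕ) • Q := by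
        apply smul_left_cancel (pw p u₀ j)
        rw [← mul_smul, ← pw_add hu₀, add_sub_cancel, ← mul_smul, ← mul_smul]
        exact heq
      have h2 : u ^ (k : ℕ) • Q ≠ P := fun e => hQ (smul_left_cancel (u ^ (k : ℕ)) (by rw [e, huP]))
      exact hne (by rw [sub_eq_zero.mp (eq_zero_of_pw_smul hu₀ hz h2 h1)])
    refine ⟨k + (q - l), fun h => hkl (Fin.ext ?_), j - i, ?_⟩
    · obtain ⟨c, hc⟩ := h
      have := k.isLt; have := l.isLt
      rcases c with _ | _ | c
      · omega
      · omega
      · have hq2 : q * 2 ≤ q * (c + 1 + 1) := Nat.mul_le_mul_left q (by omega)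
        omega
    · have hc : ∀ (a : ZMod p) (m : ℕ), Commute (pw p u₀ a) (u ^ m) := fun a m =>
        (hux.pow_left a.val).pow_right m
      have h := congrArg ((pw p u₀ (-i) * u ^ (q - (l : ℕ))) • ·) heq
      simp only [f, ← mul_smul] at h
      rw [show pw p u₀ (-i) * u ^ (q - (l : ℕ)) * (pw p u₀ i * u ^ (k : ℕ)) =
          u ^ ((k : ℕ) + (q - l)) by
          rw [mul_assoc, ← mul_assoc (u ^ (q - (l : ℕ))), ← (hc i _).eq, mul_assoc, ← pow_add,
            ← mul_assoc, ← pw_add hu₀, neg_add_cancel, pw_zero, one_mul, add_comm],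
        show pw p u₀ (-i) * u ^ (q - (l : ℕ)) * (pw p u₀ j * u ^ (l : ℕ)) = pw p u₀ (j - i) by
          rw [mul_assoc, ← mul_assoc (u ^ (q - (l : ℕ))), ← (hc j _).eq, mul_assoc, ← pow_add,
            Nat.sub_add_cancel l.isLt.le, ← hu, pow_orderOf_eq_one, mul_one, ← pw_add hu₀,
            neg_add_eq_sub]] at h
      exact h
  obtain ⟨a, ha⟩ := hdQ
  have hiter : ∀ m : ℕ, (u ^ d) ^ m • Q = pw p u₀ (m * a) • Q := by
    intro m
    induction m with
    | zero => simp [pw_zero]
    | succ m ih =>
      have hcomm : Commute (pw p u₀ ((m : ZMod p) * a)) (u ^ d) :=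
        (hux.pow_left _).pow_right d
      rw [pow_succ', mul_smul, ih, ← mul_smul, ← hcomm.eq, mul_smul]
      show pw p u₀ _ • (u ^ d • Q) = _
      rw [ha, ← mul_smul, ← pw_add hu₀]
      push_cast
      ring_nf
  have ha0 : a = 0 := by
    have h := hiter q
    rw [← pow_mul, mul_comm, pow_mul, ← hu, pow_orderOf_eq_one, one_pow, one_smul, hu] at h
    have := eq_zero_of_pw_smul hu₀ hz hQ h.symm
    refine (mul_eq_zero.mp this).resolve_left fun e => hqp ?_
    exact ((Nat.prime_dvd_prime_iff_eq hp.out hq.out).mp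
      ((ZMod.natCast_eq_zero_iff _ _).mp e)).symm
  rw [ha0, pw_zero, one_smul] at ha
  have hcop : d.Coprime q := ((Nat.Prime.coprime_iff_not_dvd hq.out).mpr hd0).symm
  obtain ⟨m, -, hm⟩ := Nat.exists_mul_mod_eq_one_of_coprime hcop hq.out.one_lt
  have hu_eq : u = (u ^ d) ^ m := by
    rw [← pow_mul, ← pow_mod_orderOf, hu, hm, pow_one]
  rw [hu_eq, hiter, ha0, mul_zero, pw_zero, one_smul]

omit [IsSimpleGroup G] hp in
/-- Integrality of the central character at an element with an integer value. -/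
theorem charDegree_dvd_class (χ : IrrCharacter G) (g : G) (c : ℤ) (hc : (χ : G → ℂ) g = c) :
    ∃ K : ℕ, Nat.card G = K * Nat.card (Subgroup.centralizer ({g} : Set G)) ∧
      charDegree (χ : G → ℂ) ∣ K * c.natAbs := by
  refine ⟨(ConjClasses.mk g).carrier.ncard, ?_, ?_⟩
  · rw [← card_carrier_mul_card_centralizer g, Nat.card_coe_set_eq]
  · refine dvd_of_isIntegral_div (charDegree_pos χ).ne' ?_
    have h := isIntegral_centralChar χ g
    have h2 : IsIntegral ℤ (centralChar (χ : G → ℂ) g * ((c.sign : ℤ) : ℂ)) :=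
      h.mul (isIntegral_algebraMap (R := ℤ) (x := c.sign))
    rw [centralChar, ← card_carrier_eq_index, hc] at h2
    convert h2 using 1
    rw [← coe_charDegree]
    push_cast [Nat.card_coe_set_eq]
    have : ((c.natAbs : ℕ) : ℂ) = (c : ℂ) * ((c.sign : ℤ) : ℂ) := by
      rw [← Int.cast_mul, Int.mul_sign_self, ← Int.cast_natCast]
    rw [this]
    ring

/-- Column bound. -/
theorem sum_sq_le_centralizer {G : Type*} [Group G] [Finite G] (S : Finset (IrrCharacter G)) (g : G)
    (v : IrrCharacter G → ℤ) (hv : ∀ χ ∈ S, (χ : G → ℂ) g = v χ) :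
    ∑ χ ∈ S, v χ ^ 2 ≤ (Nat.card (Subgroup.centralizer ({g} : Set G)) : ℤ) := by
  have h : ∑ χ ∈ S, ‖(χ : G → ℂ) g‖ ^ 2 ≤ (Nat.card (Subgroup.centralizer ({g} : Set G)) : ℝ) :=
    sum_irr_norm_sq g ▸ Finset.sum_le_sum_of_subset_of_nonneg (Finset.subset_univ S)
      fun _ _ _ => sq_nonneg _
  rw [Finset.sum_congr rfl fun (χ : IrrCharacter G) hχ => show ‖(χ : G → ℂ) g‖ ^ 2 = ((v χ ^ 2 : ℤ) : ℝ) by
    rw [hv χ hχ, Complex.norm_intCast, sq_abs, Int.cast_pow]] at h
  exact_mod_cast h

/-- The centraliser of a Sylow subgroup of order `p` modulo that subgroup acts faithfully on the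
orbits of the latter on the Sylow subgroups. -/
theorem dvd_factorial_orbits (hG : ¬ IsMulCommutative G) (P : Sylow p G)
    (hP : Nat.card (P : Subgroup G) = p) {c r : ℕ}
    (hc : Nat.card (Subgroup.centralizer ((P : Subgroup G) : Set G)) = p * c)
    (hn : Nat.card (Sylow p G) = 1 + p * r) : c ∣ (r + 1).factorial := by
  haveI := Fintype.ofFinite G
  haveI : Fintype (Sylow p G) := Fintype.ofFinite _
  obtain ⟨x, hx, hz, -⟩ := Blocks.OrderP.exists_generator_sylow P hP
  set C := Subgroup.centralizer ((P : Subgroup G) : Set G) with hCdef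
  have hcx : ∀ g ∈ C, ∀ i : ZMod p, Commute (pw p x i) g := fun g hg i =>
    (commute_of_mem_centralizer hz hg).pow_left _
  -- the orbits
  let s : Setoid (Sylow p G) :=
    { r := fun Q R => ∃ i : ZMod p, pw p x i • Q = R
      iseqv := ⟨fun Q => ⟨0, by rw [pw_zero, one_smul]⟩,
        fun {Q R} ⟨i, h⟩ => ⟨-i, by rw [← h, ← mul_smul, ← pw_add hx, neg_add_cancel, pw_zero, one_smul]⟩,
        fun {Q R T} ⟨i, h⟩ ⟨j, h'⟩ => ⟨j + i, by rw [pw_add hx, mul_smul, h, h']⟩⟩ }
  let f : C → Quotient s → Quotient s := fun g =>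
    Quotient.map (fun Q => (g : G) • Q) (fun Q R ⟨i, h⟩ => ⟨i, by
      rw [← mul_smul, (hcx _ g.2 i).eq, mul_smul, h]⟩)
  have hf : ∀ g k : C, ∀ q, f (g * k) q = f g (f k q) := fun g k q => Quotient.inductionOn q
    fun Q => congrArg (Quotient.mk s) (mul_smul (g : G) (k : G) Q)
  have hf1 : ∀ q, f 1 q = q := fun q => Quotient.inductionOn q
    fun Q => congrArg (Quotient.mk s) (one_smul G Q)
  let φ : C →* Equiv.Perm (Quotient s) :=
    MonoidHom.mk' (fun g => ⟨f g, f g⁻¹, fun q => by rw [← hf, inv_mul_cancel, hf1],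
      fun q => by rw [← hf, mul_inv_cancel, hf1]⟩) fun g k => Equiv.ext fun q => hf g k q
  have hxC : ∀ i, pw p x i ∈ C := fun i => by
    haveI := isCyclic_of_prime_card hP
    exact Subgroup.le_centralizer (P : Subgroup G)
      (hz ▸ Subgroup.pow_mem _ (Subgroup.mem_zpowers x) _)
  have hxP : ∀ i : ZMod p, pw p x i • P = P := fun i => by
    rw [SimpleOrders.smul_eq_self_iff]
    exact Subgroup.centralizer_le_normalizer _ (hxC i)
  -- the kernel is the image of the powers of `x`
  have hker : Nat.card φ.ker ≤ p := by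
    have hpow : ∀ g : φ.ker, ((g : C) : G) ^ p = 1 := by
      rintro ⟨⟨g, hg⟩, hk⟩
      apply SimpleOrders.toPermHom_injective (p := p) hG (hP ▸ Subgroup.card_subgroup_dvd_card _)
      rw [map_one]
      ext Q : 1
      show g ^ p • Q = Q
      have h1 : Quotient.mk s (g • Q) = Quotient.mk s Q :=
        Equiv.congr_fun (MonoidHom.mem_ker.mp hk) (Quotient.mk s Q)
      obtain ⟨i, hi⟩ := Quotient.exact h1.symm
      have hstep : ∀ m : ℕ, g ^ m • Q = pw p x (m * i) • Q := by
        intro m
        induction m with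
        | zero => simp [pw_zero]
        | succ m ih =>
          rw [pow_succ', mul_smul, ih, ← mul_smul, ← (hcx g hg _).eq, mul_smul, ← hi, ← mul_smul,
            ← pw_add hx]
          push_cast
          ring_nf
      rw [hstep, ZMod.natCast_self, zero_mul, pw_zero, one_smul]
    obtain ⟨k, hk⟩ := (IsPGroup.iff_card (p := p) (G := φ.ker.map C.subtype)).mp (by
      rintro ⟨y, hy⟩
      obtain ⟨g, hg, rfl⟩ := Subgroup.mem_map.mp hy
      exact ⟨1, Subtype.ext (by simpa using hpow ⟨g, hg⟩)⟩)
    rw [Nat.card_congr (φ.ker.equivMapOfInjective _ C.subtype_injective).toEquiv, hk]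
    have hle : k ≤ 1 := by
      obtain ⟨Q, hQ⟩ :=
        (IsPGroup.of_card hk : IsPGroup p (φ.ker.map C.subtype)).exists_le_sylow
      have := (Subgroup.card_dvd_of_le hQ).trans
        ((Nat.card_congr (Q.equiv P).toEquiv).trans hP).dvd
      rw [hk] at this
      exact (Nat.pow_dvd_pow_iff_le_right hp.out.one_lt).mp (this.trans (pow_one p).symm.dvd)
    exact (Nat.pow_le_pow_right hp.out.pos hle).trans (pow_one p).le
  -- the number of orbits
  have hcardQ : Nat.card (Quotient s) = r + 1 := by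
    haveI : Fintype (Quotient s) := Fintype.ofFinite _
    have hfib : ∀ q ∈ (Finset.univ.erase (Quotient.mk s P)),
        (Finset.univ.filter fun Q : Sylow p G => Quotient.mk s Q = q).card = p := by
      intro q hq
      induction q using Quotient.inductionOn with
      | h Q =>
        have hQP : Q ≠ P := fun e => Finset.ne_of_mem_erase hq (by rw [e])
        have e : (Finset.univ.filter fun R : Sylow p G => Quotient.mk s R = Quotient.mk s Q) =
            Finset.univ.image fun i : ZMod p => pw p x i • Q := by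
          ext R
          simp only [Finset.mem_filter, Finset.mem_univ, true_and, Finset.mem_image]
          exact ⟨fun h => Quotient.exact h.symm, fun h => (Quotient.sound (s := s) h).symm⟩
        rw [e, Finset.card_image_of_injective _ fun i j h => ?_, Finset.card_univ, ZMod.card]
        refine sub_eq_zero.mp (eq_zero_of_pw_smul hx hz hQP ?_)
        apply smul_left_cancel (pw p x j)
        rw [← mul_smul, ← pw_add hx, add_sub_cancel]
        exact h
    have hP1 : (Finset.univ.filter fun Q : Sylow p G => Quotient.mk s Q = Quotient.mk s P).card = 1 := by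
      rw [Finset.card_eq_one]
      refine ⟨P, ?_⟩
      ext R
      simp only [Finset.mem_filter, Finset.mem_univ, true_and, Finset.mem_singleton]
      exact ⟨fun h => by obtain ⟨i, hi⟩ := Quotient.exact h.symm; rw [← hi, hxP], fun h => by rw [h]⟩
    have h1 := Finset.card_eq_sum_card_fiberwise (f := fun Q : Sylow p G => Quotient.mk s Q)
      (s := Finset.univ) (t := Finset.univ) (fun _ _ => Finset.mem_coe.mpr (Finset.mem_univ _))
    rw [← Finset.add_sum_erase _ _ (Finset.mem_univ (Quotient.mk s P)), hP1,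
      Finset.sum_congr rfl hfib, Finset.sum_const, Finset.card_erase_of_mem (Finset.mem_univ _),
      Finset.card_univ, Finset.card_univ, ← Nat.card_eq_fintype_card, ← Nat.card_eq_fintype_card,
      hn, smul_eq_mul] at h1
    have h2 : 0 < Nat.card (Quotient s) :=
      haveI : Nonempty (Quotient s) := ⟨Quotient.mk s P⟩
      Nat.card_pos
    have h3 : r = Nat.card (Quotient s) - 1 :=
      Nat.eq_of_mul_eq_mul_left hp.out.pos (by rw [mul_comm p (Nat.card (Quotient s) - 1)]; omega)
    omega
  have hdvd := Subgroup.card_subgroup_dvd_card φ.range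
  rw [Nat.card_perm, hcardQ] at hdvd
  have hmul := φ.ker.card_mul_index
  rw [Subgroup.index_ker, hc] at hmul
  have hpker : Nat.card φ.ker = p := by
    refine le_antisymm hker ?_
    have hle : (P : Subgroup G).subgroupOf C ≤ φ.ker := by
      rintro ⟨g, hg⟩ hgP
      have hgP' : g ∈ Subgroup.zpowers x := hz ▸ Subgroup.mem_subgroupOf.mp hgP
      obtain ⟨m, hm⟩ := mem_powers_iff_mem_zpowers.mpr hgP'
      refine MonoidHom.mem_ker.mpr (Equiv.ext fun q => Quotient.inductionOn q fun Q => ?_)
      show Quotient.mk s (g • Q) = Quotient.mk s Q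
      exact (Quotient.sound (s := s) ⟨(m : ZMod p), by rw [pw_eq_of_natCast hx, ← hm]⟩).symm
    refine le_of_eq_of_le ?_ (Subgroup.card_le_of_le hle)
    haveI := isCyclic_of_prime_card hP
    rw [Nat.card_congr (Subgroup.subgroupOfEquivOfLe (Subgroup.le_centralizer (P : Subgroup G))).toEquiv, hP]
  rw [hpker] at hmul
  exact Nat.eq_of_mul_eq_mul_left hp.out.pos hmul ▸ hdvd

end CfsgLib.PrimeGram
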